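import Cfsg.Agent.Lib.Sporadic.Fi24Mult.Lifts

/-!
# A central extension of the derived subgroup gives an action of the group without the long relation

The points are pairs of an element of the extension and a sheet; a letter changes the sheet and
multiplies by the lift of its product with `l`.
-/

set_option autoImplicit false
set_option maxRecDepth 100000

open Cfsg.Spor

namespace CfsgLib.Sporadic.Fi24Mult

open CosetCert (relList appWord)
open CosetCert.Fi23P.Two (el el_nil el_append el_single)
open Fi24Model (gpos tr wordH wordH_spec)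
open Fi24Model.UB (sWord startW)

/-- The conjugator of a letter. -/
noncomputable def mem (n : ℕ) : Fi24 :=
  if h : n < 12 then (Fi24Model.conj_gen_zero h).choose else 1

theorem mem_spec {n : ℕ} (h : n < 12) : mem n * Fi24Model.gen 0 * (mem n)⁻¹ = Fi24Model.gen n := by
  rw [mem, dif_pos h]
  exact (Fi24Model.conj_gen_zero h).choose_spec.symm

theorem gen_mul_mem {p q : ℕ} (hp : p < 12) (hq : q < 12) :
    Fi24Model.gen p * Fi24Model.gen q ∈ commutator Fi24 := by
  rw [Fi24Model.commutator_eq_ker, MonoidHom.mem_ker, map_mul, Fi24Model.signHom_gen hp,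
    Fi24Model.signHom_gen hq]
  decide

/-- The product `k l`. -/
noncomputable def kl : ↥(commutator Fi24) :=
  ⟨Fi24Model.gen 1 * Fi24Model.gen 0, gen_mul_mem (by norm_num) (by norm_num)⟩

theorem isRel_comm {p q : ℕ} (hp : p < 12) (hq : q < 12)
    (h : Fi24Model.isRel [p, q, p, q] = true ∨ Fi24Model.isRel [q, p, q, p] = true) :
    Commute (Fi24Model.gen p) (Fi24Model.gen q) := by
  rcases h with h | h
  · exact letters_comm hp hq h
  · exact (letters_comm hq hp h).symm

theorem kl_comm {m : ℕ} (h1 : 3 ≤ m) (h2 : m < 12) :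
    Commute ((kl : ↥(commutator Fi24)) : Fi24) (mem m * Fi24Model.gen 0 * (mem m)⁻¹) := by
  rw [mem_spec h2]
  exact (Fi24Model.UB.k_comm h1 h2).mul_left (Fi24Model.l_comm h2 (by omega))

theorem iota_one (x : Fi23) : (iota 1 x : Fi24) = Fi24Model.embFi x := by rw [iota_val, one_mul, inv_one, mul_one]

theorem iota_one_gen {n : ℕ} (h : n < 10) :
    (iota 1 (CosetCert.Fi23P.coding.gen n) : Fi24) = Fi24Model.gen (n + 2) * Fi24Model.gen 0 := by
  rw [iota_one, Fi24Model.embFi_gen h]

theorem iota_one_word {w : List ℕ} (h : wordH w = true) (he : w.length % 2 = 0) :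
    (iota 1 (el (tr w)) : Fi24) = Fi24Model.val w := by
  rw [iota_one, Fi24Model.val_eq_emb Fi24Model.spider_holds h, Fi24Model.l_pow, he, pow_zero, mul_one]
  rfl

section Ext

variable {E : Type*} [Group E] [Finite E] (π : E →* ↥(commutator Fi24)) (hsur : Function.Surjective π)
  (hker : π.ker ≤ Subgroup.center E)

/-- The lift of `k l` from the centraliser of `j`. -/
noncomputable def tl : E :=
  lam π hsur hker (mem 9) (exists_iota (kl_comm (m := 9) (by norm_num) (by norm_num))).choose

/-- The lift of a letter times `l`. -/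
noncomputable def xl (n : ℕ) : E := lam π hsur hker 1 (CosetCert.Fi23P.coding.gen (n - 2))

theorem kl_lift {m : ℕ} (hm : m = 3 ∨ m = 9) :
    ∃ x, iota (mem m) x = kl ∧ lam π hsur hker (mem m) x = tl π hsur hker := by
  have h9 := (exists_iota (kl_comm (m := 9) (by norm_num) (by norm_num))).choose_spec
  rcases hm with rfl | rfl
  · obtain ⟨x, hx⟩ := exists_iota (kl_comm (m := 3) (by norm_num) (by norm_num))
    refine ⟨x, hx, lam_agree π hsur hker ?_ (hx.trans h9.symm)⟩
    rw [mem_spec (by norm_num), mem_spec (by norm_num)]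
    exact pairs_lbj.2.2
  · exact ⟨_, h9, rfl⟩

theorem xl_lift {m n : ℕ} (hm : m = 3 ∨ m = 9) (h2 : 2 ≤ n) (hn : n < 12)
    (hc : Commute (Fi24Model.gen n) (Fi24Model.gen m)) :
    ∃ x, (iota (mem m) x : Fi24) = Fi24Model.gen n * Fi24Model.gen 0 ∧
      lam π hsur hker (mem m) x = xl π hsur hker n := by
  have hml : m < 12 := by omega
  have hlm : Commute (Fi24Model.gen 0) (Fi24Model.gen m) := Fi24Model.l_comm hml (by omega)
  obtain ⟨x, hx⟩ := exists_iota (g := mem m) (y := ⟨_, gen_mul_mem hn (show 0 < 12 by norm_num)⟩)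
    (by rw [mem_spec hml]; exact hc.mul_left hlm)
  refine ⟨x, congrArg Subtype.val hx, (lam_agree π hsur hker ?_ ?_).symm⟩
  · rw [one_mul, inv_one, mul_one, mem_spec hml]
    rcases hm with rfl | rfl
    · exact pairs_lbj.1
    · exact pairs_lbj.2.1
  · rw [hx]
    refine Subtype.ext ?_
    rw [iota_one_gen (by omega), show n - 2 + 2 = n by omega]

theorem tl_cube : tl π hsur hker ^ 3 = 1 := by
  obtain ⟨x, hx, e⟩ := kl_lift π hsur hker (m := 9) (Or.inr rfl)
  have hk : (Fi24Model.gen 1 * Fi24Model.gen 0) ^ 3 = 1 := by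
    have h3 := Fi24Model.val_eq_one_of_isRel (w := [0, 1, 0, 1, 0, 1]) (by decide +kernel)
    simp only [Fi24Model.val_cons, Fi24Model.val_nil, mul_one] at h3
    have h0 := Fi24Model.gen_sq (show 0 < 12 by norm_num)
    generalize Fi24Model.gen 0 = u, Fi24Model.gen 1 = v at h3 h0 ⊢
    calc (v * u) ^ 3 = u⁻¹ * (u * (v * (u * (v * (u * v))))) * u := by
          simp only [pow_succ, pow_zero, one_mul, mul_assoc, inv_mul_cancel_left]
      _ = 1 := by rw [h3, mul_one, inv_mul_cancel]
  have : x ^ 3 = 1 := iota_injective (mem 9) (by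
    rw [map_pow, hx, map_one]
    exact Subtype.ext hk)
  rw [← e, ← map_pow, this, map_one]

theorem k_rel {m n p : ℕ} (hm : m = 3 ∨ m = 9) (h2 : 2 ≤ n) (hn : n < 12)
    (hc : Commute (Fi24Model.gen n) (Fi24Model.gen m))
    (hG : (Fi24Model.gen 1 * Fi24Model.gen n) ^ p = 1) :
    (tl π hsur hker * xl π hsur hker n) ^ p = 1 ∧ ((tl π hsur hker)⁻¹ * xl π hsur hker n) ^ p = 1 := by
  obtain ⟨a, ha, ea⟩ := kl_lift π hsur hker hm
  obtain ⟨b, hb, eb⟩ := xl_lift π hsur hker hm h2 hn hc
  have h0 := Fi24Model.gen_sq (show 0 < 12 by norm_num)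
  have h1 := Fi24Model.gen_sq (show 1 < 12 by norm_num)
  have hln : Commute (Fi24Model.gen 0) (Fi24Model.gen n) := Fi24Model.l_comm hn (by omega)
  have hav : (iota (mem m) a : Fi24) = Fi24Model.gen 1 * Fi24Model.gen 0 := congrArg Subtype.val ha
  have e1 : (iota (mem m) (a * b) : Fi24) = Fi24Model.gen 1 * Fi24Model.gen n := by
    rw [map_mul, Subgroup.coe_mul, hav, hb, mul_assoc, ← mul_assoc (Fi24Model.gen 0), hln.eq,
      mul_assoc (Fi24Model.gen n), h0, mul_one]
  have e2 : (iota (mem m) (a⁻¹ * b) : Fi24) =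
      Fi24Model.gen 0 * (Fi24Model.gen 1 * Fi24Model.gen n) * (Fi24Model.gen 0)⁻¹ := by
    rw [map_mul, map_inv, Subgroup.coe_mul, InvMemClass.coe_inv, hav, hb, mul_inv_rev,
      inv_eq_of_mul_eq_one_right h0, inv_eq_of_mul_eq_one_right h1]
    simp only [mul_assoc]
  constructor
  · rw [← ea, ← eb, ← map_mul, ← map_pow, show (a * b) ^ p = 1 from iota_injective (mem m) (Subtype.ext (by
      rw [map_pow, map_one, SubmonoidClass.coe_pow, e1, hG, Subgroup.coe_one])), map_one]
  · rw [← ea, ← eb, ← map_inv, ← map_mul, ← map_pow, show (a⁻¹ * b) ^ p = 1 from iota_injective (mem m) (Subtype.ext (by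
      rw [map_pow, map_one, SubmonoidClass.coe_pow, e2, conj_pow, hG, mul_one, mul_inv_cancel,
        Subgroup.coe_one])), map_one]

variable {F : Type*} [Group F] (q : E →* F)

/-- The multipliers of a letter on the two sheets. -/
noncomputable def mult : ℕ → Bool → E
  | 0, _ => 1
  | 1, b => bif b then tl π hsur hker else (tl π hsur hker)⁻¹
  | n + 2, _ => xl π hsur hker (n + 2)

/-- Multiply by an element depending on the sheet and change the sheet. -/
def sheetPerm (Y : Bool → F) : Equiv.Perm (F × Bool) where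
  toFun p := (Y p.2 * p.1, !p.2)
  invFun p := ((Y !p.2)⁻¹ * p.1, !p.2)
  left_inv p := by simp
  right_inv p := by simp

/-- The permutation of a letter. -/
noncomputable def act (n : ℕ) : Equiv.Perm (F × Bool) := sheetPerm fun b => q (mult π hsur hker n b)

theorem act_apply (n : ℕ) (e : F) (b : Bool) :
    act π hsur hker q n (e, b) = (q (mult π hsur hker n b) * e, !b) := rfl

theorem act_H {n : ℕ} (h1 : n ≠ 1) (b : Bool) :
    mult π hsur hker n b = if n = 0 then 1 else xl π hsur hker n := by
  rcases n with _ | _ | n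
  · rfl
  · exact absurd rfl h1
  · rfl

theorem act_word {w : List ℕ} (h : wordH w = true) (e : F) (b : Bool) :
    (w.map (act π hsur hker q)).prod (e, b) = (q (lam π hsur hker 1 (el (tr w))) * e, not^[w.length] b) := by
  induction w with
  | nil => simp [tr, el_nil]
  | cons x t ih =>
    obtain ⟨hx12, hne⟩ := wordH_spec h x List.mem_cons_self
    have ht : wordH t = true := by
      simp only [wordH, List.all_cons, Bool.and_eq_true] at h
      exact h.2
    rw [List.map_cons, List.prod_cons, Equiv.Perm.mul_apply, ih ht, act_apply, act_H π hsur hker hne,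
      List.length_cons, Function.iterate_succ_apply']
    rcases Nat.eq_zero_or_pos x with rfl | hp
    · rw [if_pos rfl, map_one, one_mul, show tr (0 :: t) = tr t from rfl]
    · have e' : tr (x :: t) = tr t ++ [x - 2] := by
        simp [tr, show Nat.beq x 0 = false from Bool.eq_false_iff.2 fun e => by
          have := Nat.eq_of_beq_eq_true e; omega]
      rw [if_neg (by omega), e', el_append, el_single, map_mul, map_mul, xl, mul_assoc]

theorem act_sq {n : ℕ} (hn : n < 12) : act π hsur hker q n * act π hsur hker q n = 1 := by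
  refine Equiv.ext fun p => ?_
  obtain ⟨e, b⟩ := p
  rw [Equiv.Perm.mul_apply, act_apply, act_apply, Bool.not_not, Equiv.Perm.one_apply, ← mul_assoc, ← map_mul]
  rcases n with _ | _ | n
  · simp [mult]
  · cases b <;> simp [mult]
  · rw [mult, mult, xl, ← map_mul, CosetCert.Fi23P.Two.gen_sq (by omega), map_one, map_one, one_mul]

theorem act_H_rel {w : List ℕ} (h : wordH w = true) (he : w.length % 2 = 0) (hr : Fi24Model.val w = 1) :
    (w.map (act π hsur hker q)).prod = 1 := by
  have hw : el (tr w) = 1 := Fi24Model.embFi_injective (by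
    rw [map_one, ← iota_one, iota_one_word h he, hr])
  refine Equiv.ext fun ⟨e, b⟩ => ?_
  rw [act_word π hsur hker q h, hw, map_one, map_one, one_mul, Equiv.Perm.one_apply,
    Bool.involutive_not.iterate_even (Nat.even_iff.2 he), id]

theorem mult_one' (b : Bool) :
    mult π hsur hker 1 b = bif b then tl π hsur hker else (tl π hsur hker)⁻¹ := rfl

theorem act_rel : ∀ r ∈ relList Fi24.edges extra0 coding0.pairs,
    ((appWord gpos gpos r).reverse.map (act π hsur hker q)).prod = 1 := by
  intro r hr
  have key : ∀ r ∈ relList Fi24.edges extra0 coding0.pairs,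
      (wordH (appWord gpos gpos r).reverse = true ∧ (appWord gpos gpos r).reverse.length % 2 = 0) ∨
      (appWord gpos gpos r).reverse = [1, 1] ∨ (appWord gpos gpos r).reverse = [0, 1, 0, 1, 0, 1] ∨
      (appWord gpos gpos r).reverse = [1, 2, 1, 2, 1, 2] ∨
      ∃ x ∈ [3, 4, 5, 6, 7, 8, 9, 10, 11], (appWord gpos gpos r).reverse = [1, x, 1, x] := by
    decide +kernel
  rcases key r hr with ⟨h, he⟩ | e | e | e | ⟨x, hx, e⟩
  · refine act_H_rel π hsur hker q h he ?_
    rw [← proj_val fun x hx => (wordH_spec h x hx).1, val0_one_of_isRel, map_one]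
    exact List.any_eq_true.2 ⟨r, hr, beq_self_eq_true _⟩
  · rw [e]
    simpa using act_sq π hsur hker q (show 1 < 12 by norm_num)
  · rw [e]
    refine Equiv.ext fun ⟨a, b⟩ => ?_
    have h3 := tl_cube π hsur hker
    simp only [List.map_cons, List.map_nil, List.prod_cons, List.prod_nil, mul_one,
      Equiv.Perm.mul_apply, act_apply, Equiv.Perm.one_apply, Bool.not_not, mult, map_one, one_mul]
    cases b
    · rw [← mul_assoc, ← mul_assoc, ← map_mul, ← map_mul]
      simp only [cond_false]
      rw [show (tl π hsur hker)⁻¹ * (tl π hsur hker)⁻¹ * (tl π hsur hker)⁻¹ = ((tl π hsur hker) ^ 3)⁻¹ by simp only [pow_succ, pow_zero, one_mul, mul_assoc, mul_inv_rev],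
        h3, inv_one, map_one, one_mul]
    · rw [← mul_assoc, ← mul_assoc, ← map_mul, ← map_mul]
      simp only [cond_true]
      rw [show tl π hsur hker * tl π hsur hker * tl π hsur hker = (tl π hsur hker) ^ 3 by simp only [pow_succ, pow_zero, one_mul, mul_assoc, mul_inv_rev],
        h3, map_one, one_mul]
  · rw [e]
    have hG : (Fi24Model.gen 1 * Fi24Model.gen 2) ^ 3 = 1 := by
      have := Fi24Model.val_eq_one_of_isRel (w := [1, 2, 1, 2, 1, 2]) (by decide +kernel)
      simp only [Fi24Model.val_cons, Fi24Model.val_nil, mul_one] at this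
      simpa [pow_succ, mul_assoc] using this
    obtain ⟨hp, hm⟩ := k_rel π hsur hker (m := 9) (Or.inr rfl) (show 2 ≤ 2 from le_rfl) (by norm_num)
      (isRel_comm (by norm_num) (by norm_num) (Or.inl (by decide +kernel))) hG
    refine Equiv.ext fun ⟨a, b⟩ => ?_
    simp only [List.map_cons, List.map_nil, List.prod_cons, List.prod_nil, mul_one,
      Equiv.Perm.mul_apply, act_apply, Equiv.Perm.one_apply, Bool.not_not, mult]
    simp only [← mul_assoc, ← map_mul]
    cases b
    · simp only [Bool.not_false, cond_true]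
      rw [show tl π hsur hker * xl π hsur hker 2 * tl π hsur hker * xl π hsur hker 2 * tl π hsur hker *
        xl π hsur hker 2 = (tl π hsur hker * xl π hsur hker 2) ^ 3 by simp only [pow_succ, pow_zero, one_mul, mul_assoc, mul_inv_rev], hp, map_one, one_mul]
    · simp only [Bool.not_true, cond_false]
      rw [show (tl π hsur hker)⁻¹ * xl π hsur hker 2 * (tl π hsur hker)⁻¹ * xl π hsur hker 2 *
        (tl π hsur hker)⁻¹ * xl π hsur hker 2 = ((tl π hsur hker)⁻¹ * xl π hsur hker 2) ^ 3 by simp only [pow_succ, pow_zero, one_mul, mul_assoc, mul_inv_rev],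
        hm, map_one, one_mul]
  · rw [e]
    have hx12 : x < 12 ∧ 3 ≤ x := by
      clear e hr key; revert x; decide
    have hG : (Fi24Model.gen 1 * Fi24Model.gen x) ^ 2 = 1 := by
      rw [(Fi24Model.UB.k_comm hx12.2 hx12.1).mul_pow, pow_two, pow_two, Fi24Model.gen_sq (by norm_num),
        Fi24Model.gen_sq hx12.1, one_mul]
    obtain ⟨m, hm, hc⟩ : ∃ m, (m = 3 ∨ m = 9) ∧ Commute (Fi24Model.gen x) (Fi24Model.gen m) := by
      by_cases h8 : x = 8
      · exact ⟨3, Or.inl rfl, isRel_comm hx12.1 (by norm_num) (Or.inr (by subst h8; decide +kernel))⟩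
      by_cases h9 : x = 9
      · subst h9; exact ⟨9, Or.inr rfl, Commute.refl _⟩
      refine ⟨9, Or.inr rfl, isRel_comm hx12.1 (by norm_num) ?_⟩
      have : ∀ y ∈ [3, 4, 5, 6, 7, 8, 9, 10, 11], y = 8 ∨ y = 9 ∨
          Fi24Model.isRel [y, 9, y, 9] = true ∨ Fi24Model.isRel [9, y, 9, y] = true := by decide +kernel
      exact ((this x hx).resolve_left h8).resolve_left h9
    obtain ⟨hp, hmm⟩ := k_rel π hsur hker hm (show 2 ≤ x by omega) hx12.1 hc hG
    refine Equiv.ext fun ⟨a, b⟩ => ?_
    simp only [List.map_cons, List.map_nil, List.prod_cons, List.prod_nil, mul_one,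
      Equiv.Perm.mul_apply, act_apply, Equiv.Perm.one_apply, Bool.not_not,
      act_H π hsur hker (show x ≠ 1 by omega), if_neg (show x ≠ 0 by omega), mult_one']
    simp only [← mul_assoc, ← map_mul]
    cases b
    · simp only [Bool.not_false, cond_true]
      rw [mul_assoc (tl π hsur hker * _), ← pow_two, hp, map_one, one_mul]
    · simp only [Bool.not_true, cond_false]
      rw [mul_assoc ((tl π hsur hker)⁻¹ * _), ← pow_two, hmm, map_one, one_mul]

/-- The action. -/
noncomputable def actHom : Γ0 →* Equiv.Perm (F × Bool) :=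
  PresentedGroup.toGroup (lift_rel0 (act π hsur hker q) (fun _ hn => act_sq π hsur hker q hn)
    (act_rel π hsur hker q))

theorem actHom_gen {n : ℕ} (hn : n < 12) : actHom π hsur hker q (gen0 n) = act π hsur hker q n := by
  obtain ⟨x, rfl⟩ := Fi24Model.exists_gpos hn
  rw [gen0_gpos]
  exact PresentedGroup.toGroup.of _

theorem actHom_val {w : List ℕ} (hw : ∀ x ∈ w, x < 12) :
    actHom π hsur hker q (val0 w) = (w.map (act π hsur hker q)).prod := by
  induction w with
  | nil => exact map_one _
  | cons x t ih =>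
    rw [val0_cons, map_mul, actHom_gen π hsur hker q (hw x List.mem_cons_self),
      ih fun y hy => hw y (List.mem_cons_of_mem _ hy)]
    rfl

/-- The lift of the word `s`. -/
noncomputable def sl : E := lam π hsur hker 1 (el (tr sWord))

/-- The commutator that spans the kernel of a stem extension. -/
noncomputable def cc : E :=
  sl π hsur hker * tl π hsur hker * (sl π hsur hker)⁻¹ * (tl π hsur hker)⁻¹

theorem cc_ker : cc π hsur hker ∈ π.ker := by
  obtain ⟨x, hx, e⟩ := kl_lift π hsur hker (m := 9) (Or.inr rfl)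
  have hs : (π (sl π hsur hker) : Fi24) = Fi24Model.val sWord := by
    rw [sl, pi_lam, iota_one_word walk_facts.2.2.1 (by decide)]
  have ht : (π (tl π hsur hker) : Fi24) = Fi24Model.gen 1 * Fi24Model.gen 0 := by
    rw [← e, pi_lam, hx]
    rfl
  have hc : Commute (Fi24Model.val sWord) (Fi24Model.gen 1 * Fi24Model.gen 0) :=
    s_comm_k.symm.mul_right (Fi24Model.l_central (Fi24Model.val_mem_H walk_facts.2.2.1)).symm
  rw [MonoidHom.mem_ker, cc]
  refine Subtype.ext ?_
  simp only [map_mul, map_inv, Subgroup.coe_mul, InvMemClass.coe_inv, hs, ht, Subgroup.coe_one]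
  rw [hc.eq, mul_inv_cancel_right, mul_inv_cancel]

theorem cc_comm (x : E) : cc π hsur hker * x = x * cc π hsur hker :=
  (Subgroup.mem_center_iff.1 (hker (cc_ker π hsur hker)) x).symm

theorem cc_cube : cc π hsur hker ^ 3 = 1 := by
  have h : (sl π hsur hker * tl π hsur hker * (sl π hsur hker)⁻¹) ^ 3 = 1 := by
    rw [conj_pow, tl_cube, mul_one, mul_inv_cancel]
  rw [show sl π hsur hker * tl π hsur hker * (sl π hsur hker)⁻¹ = cc π hsur hker * tl π hsur hker from
    (inv_mul_cancel_right _ _).symm, (show Commute (cc π hsur hker) (tl π hsur hker) from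
      cc_comm π hsur hker _).mul_pow, tl_cube, mul_one] at h
  exact h

theorem actHom_zz0 (hq : q (cc π hsur hker) = 1) : actHom π hsur hker q zz0 = 1 := by
  obtain ⟨-, hst, hsH, -⟩ := walk_facts
  have hA : ∀ (e : F) (b : Bool), actHom π hsur hker q (val0 startW) (e, b) =
      (q (lam π hsur hker 1 (el (tr startW))) * e, !b) := fun e b => by
    rw [actHom_val π hsur hker q fun x hx => (wordH_spec hst x hx).1, act_word π hsur hker q hst,
      Bool.involutive_not.iterate_odd (by decide)]
  have hS : ∀ (e : F) (b : Bool), actHom π hsur hker q (val0 sWord) (e, b) =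
      (q (sl π hsur hker) * e, b) := fun e b => by
    rw [actHom_val π hsur hker q fun x hx => (wordH_spec hsH x hx).1, act_word π hsur hker q hsH,
      Bool.involutive_not.iterate_even (by decide)]
    rfl
  have key : actHom π hsur hker q (val0 sWord * gen0 1 * (val0 sWord)⁻¹ * gen0 1) = 1 := by
    refine Equiv.ext fun ⟨e, b⟩ => ?_
    have hS' : (actHom π hsur hker q (val0 sWord))⁻¹ (q (mult π hsur hker 1 b) * e, !b) =
        ((q (sl π hsur hker))⁻¹ * (q (mult π hsur hker 1 b) * e), !b) := by
      rw [Equiv.Perm.inv_eq_iff_eq, hS, mul_inv_cancel_left]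
    simp only [map_mul, map_inv, Equiv.Perm.mul_apply, actHom_gen π hsur hker q (show 1 < 12 by norm_num),
      act_apply, hS', hS, Bool.not_not, Equiv.Perm.one_apply]
    rw [← map_inv, ← mul_assoc, ← mul_assoc, ← mul_assoc, ← map_mul, ← map_mul, ← map_mul]
    cases b
    · simp only [mult, Bool.not_false, cond_false, cond_true]
      rw [show sl π hsur hker * tl π hsur hker * (sl π hsur hker)⁻¹ * (tl π hsur hker)⁻¹ =
        cc π hsur hker from rfl, hq, one_mul]
    · simp only [mult, Bool.not_true, cond_false, cond_true]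
      rw [show sl π hsur hker * (tl π hsur hker)⁻¹ * (sl π hsur hker)⁻¹ * tl π hsur hker =
        (tl π hsur hker)⁻¹ * (cc π hsur hker)⁻¹ * tl π hsur hker by rw [cc]; group, map_mul, map_mul,
        map_inv q (cc π hsur hker), hq, inv_one, mul_one, ← map_mul, inv_mul_cancel, map_one, one_mul]
  rw [zz0_eq, map_mul, map_mul, key, mul_one, ← map_mul, mul_inv_cancel, map_one]

end Ext

end CfsgLib.Sporadic.Fi24Mult
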