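import Cfsg.Agent.Lib.Sporadic.Fi24Mult.Act

/-!
# The kernel of a stem extension of the derived subgroup of Fi24 is spanned by one element of order
dividing three
-/

set_option autoImplicit false
set_option maxRecDepth 100000

open Cfsg.Spor
open scoped commutatorElement

namespace CfsgLib.Sporadic.Fi24Mult

open CosetCert (relList appWord)
open Fi24Model (gpos)

theorem rel24_cases : ∀ r ∈ relList Fi24.edges Fi24.extra Fi24Model.coding.pairs,
    isRel0 (appWord gpos gpos r).reverse = true ∨
      (appWord gpos gpos r).reverse = (List.replicate 17 zWord).flatten := by decide +kernel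

/-- `l` on the second sheet. -/
noncomputable def sheetEl (b : Bool) : Fi24 := bif b then Fi24Model.gen 0 else 1

theorem sheetEl_sq (b : Bool) : sheetEl b * sheetEl b = 1 := by
  cases b
  · exact one_mul _
  · exact Fi24Model.gen_sq (show 0 < 12 by norm_num)

theorem sign_sheetEl (b : Bool) : Fi24Model.signHom (sheetEl b) = bif b then -1 else 1 := by
  cases b
  · exact map_one _
  · exact Fi24Model.signHom_gen (show 0 < 12 by norm_num)

section Ext

variable {E : Type*} [Group E] [Finite E] (π : E →* ↥(commutator Fi24)) (hsur : Function.Surjective π)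
  (hker : π.ker ≤ Subgroup.center E)

instance span_normal [hn : Fact (π.ker ≤ Subgroup.center E)] :
    (Subgroup.zpowers (cc π hsur hn.out)).Normal := by
  refine ⟨fun x hx g => ?_⟩
  obtain ⟨n, rfl⟩ := Subgroup.mem_zpowers_iff.1 hx
  have h := (show Commute (cc π hsur hn.out) g from cc_comm π hsur hn.out g).zpow_left n
  rw [← h.eq, mul_inv_cancel_right]
  exact Subgroup.zpow_mem_zpowers _ n

theorem ker_le_span (hstem : π.ker ≤ commutator E) : π.ker ≤ Subgroup.zpowers (cc π hsur hker) := by
  haveI : Fact (π.ker ≤ Subgroup.center E) := ⟨hker⟩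
  set C := Subgroup.zpowers (cc π hsur hker) with hC
  haveI : C.Normal := span_normal π hsur
  set q : E →* E ⧸ C := QuotientGroup.mk' C with hqdef
  have hqc : q (cc π hsur hker) = 1 :=
    (QuotientGroup.eq_one_iff _).2 (Subgroup.mem_zpowers _)
  let pb : E ⧸ C →* ↥(commutator Fi24) := QuotientGroup.lift C π (by
    rw [hC, Subgroup.zpowers_le]
    exact cc_ker π hsur hker)
  have hpb : ∀ e, pb (q e) = π e := fun e => rfl
  have hrel : ∀ r ∈ coxRelators Fi24.edges ∪ {r | r ∈ Fi24.extra},
      FreeGroup.lift (fun x => act π hsur hker q (gpos x)) r = 1 := by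
    refine CosetCert.lift_cox_eq_one _ Fi24Model.coding.pairs_cover fun r hr => ?_
    have e : FreeGroup.lift (fun x => act π hsur hker q (gpos x)) r =
        ((appWord gpos gpos r).reverse.map (act π hsur hker q)).prod := by
      rw [CosetCert.lift_eq_appProd (fun x => act π hsur hker q (gpos x)) (act π hsur hker q) gpos gpos
        (fun _ => rfl) (fun x => (inv_eq_of_mul_eq_one_right
          (act_sq π hsur hker q (show gpos x < 12 by cases x <;> decide))).symm) r]
      induction appWord gpos gpos r with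
      | nil => rfl
      | cons x t ih => rw [List.reverse_cons, List.map_append, List.prod_append, ← ih]; simp [CosetCert.appProd]
    rw [e]
    rcases rel24_cases r hr with h | h
    · obtain ⟨r', hr', he⟩ := List.any_eq_true.1 h
      rw [← eq_of_beq he]
      exact act_rel π hsur hker q r' hr'
    · rw [h, ← actHom_val π hsur hker q (by decide)]
      exact actHom_zz0 π hsur hker q hqc
  let Θ : Fi24 →* Equiv.Perm ((E ⧸ C) × Bool) := PresentedGroup.toGroup hrel
  have hgen : ∀ n < 12, Θ (Fi24Model.gen n) = act π hsur hker q n := fun n hn => by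
    obtain ⟨x, rfl⟩ := Fi24Model.exists_gpos hn
    rw [Fi24Model.gen_gpos]
    exact PresentedGroup.toGroup.of hrel
  -- the components of a letter lie over the products with `l`
  have hletter : ∀ n < 12, ∀ b, (π (mult π hsur hker n b) : Fi24) =
      sheetEl (!b) * Fi24Model.gen n * sheetEl b := by
    intro n hn b
    have h0 := Fi24Model.gen_sq (show 0 < 12 by norm_num)
    rcases n with _ | _ | n
    · cases b <;> simp [mult, sheetEl, h0]
    · obtain ⟨x, hx, e⟩ := kl_lift π hsur hker (m := 9) (Or.inr rfl)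
      have ht : (π (tl π hsur hker) : Fi24) = Fi24Model.gen 1 * Fi24Model.gen 0 := by
        rw [← e, pi_lam, hx]; rfl
      cases b
      · simp only [mult, sheetEl, cond_false, cond_true, Bool.not_false, map_inv, InvMemClass.coe_inv, ht,
          mul_inv_rev, inv_eq_of_mul_eq_one_right h0,
          inv_eq_of_mul_eq_one_right (Fi24Model.gen_sq (show 1 < 12 by norm_num)), mul_one]
      · simp only [mult, sheetEl, cond_false, cond_true, Bool.not_true, ht, one_mul]
    · have hc := Fi24Model.l_comm hn (show n + 2 ≠ 1 by omega)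
      rw [mult, xl, pi_lam, iota_one_gen (by omega), show n + 2 - 2 + 2 = n + 2 by omega]
      cases b
      · simp [sheetEl, hc.eq]
      · simp [sheetEl]
  have hP : ∀ w : List ℕ, (∀ x ∈ w, x < 12) → ∃ (Y : Bool → E ⧸ C) (t : Bool → Bool), ∀ b,
      (∀ e, Θ (Fi24Model.val w) (e, b) = (Y b * e, t b)) ∧
        (pb (Y b) : Fi24) = sheetEl (t b) * Fi24Model.val w * sheetEl b := by
    intro w
    induction w with
    | nil =>
      intro _
      refine ⟨fun _ => 1, id, fun b => ⟨fun e => ?_, ?_⟩⟩
      · rw [Fi24Model.val_nil, map_one, one_mul]; rfl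
      · rw [Fi24Model.val_nil, map_one, mul_one, id, sheetEl_sq]; rfl
    | cons x u ih =>
      intro hw
      obtain ⟨Y, t, h⟩ := ih fun y hy => hw y (List.mem_cons_of_mem _ hy)
      have hx := hw x List.mem_cons_self
      refine ⟨fun b => q (mult π hsur hker x (t b)) * Y b, fun b => !(t b), fun b => ⟨fun e => ?_, ?_⟩⟩
      · rw [Fi24Model.val_cons, map_mul, Equiv.Perm.mul_apply, (h b).1, hgen x hx, act_apply, mul_assoc]
      · rw [Fi24Model.val_cons, map_mul, Subgroup.coe_mul, hpb, hletter x hx, (h b).2]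
        simp only [mul_assoc]
        rw [← mul_assoc (sheetEl (t b)) (sheetEl (t b)), sheetEl_sq, one_mul]
  have hwords : ∀ g : Fi24, ∃ w : List ℕ, (∀ x ∈ w, x < 12) ∧ Fi24Model.val w = g := by
    intro g
    have hg : g ∈ Subgroup.closure (Fi24Model.gen '' {n | n < 12}) :=
      Fi24Model.closure_letters.symm ▸ Subgroup.mem_top g
    induction hg using Subgroup.closure_induction with
    | mem x hx =>
      obtain ⟨n, hn, rfl⟩ := hx
      exact ⟨[n], fun y hy => by rw [List.mem_singleton.1 hy]; exact hn, Fi24Model.val_single n⟩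
    | one => exact ⟨[], fun y hy => (List.not_mem_nil hy).elim, rfl⟩
    | mul x y _ _ hx hy =>
      obtain ⟨a, ha, rfl⟩ := hx
      obtain ⟨b, hb, rfl⟩ := hy
      exact ⟨a ++ b, fun z hz => (List.mem_append.1 hz).elim (ha z) (hb z), Fi24Model.val_append a b⟩
    | inv x _ hx =>
      obtain ⟨a, ha, rfl⟩ := hx
      exact ⟨a.reverse, fun z hz => ha z (List.mem_reverse.1 hz), Fi24Model.val_reverse ha⟩
  have hstab : ∀ g : ↥(commutator Fi24), ∃ y : E ⧸ C,
      (∀ e, Θ g (e, false) = (y * e, false)) ∧ pb y = g := by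
    intro g
    obtain ⟨w, hw, hg⟩ := hwords g
    obtain ⟨Y, t, h⟩ := hP w hw
    obtain ⟨h1, h2⟩ := h false
    rw [hg] at h1 h2
    have hsign : ∀ a : ↥(commutator Fi24), Fi24Model.signHom (a : Fi24) = 1 := fun a =>
      MonoidHom.mem_ker.1 (Fi24Model.commutator_eq_ker ▸ a.2)
    have ht : t false = false := by
      have h3 := congrArg Fi24Model.signHom h2
      rw [hsign, map_mul, map_mul, hsign, sign_sheetEl, sign_sheetEl, mul_one, cond_false, mul_one] at h3
      by_contra hne
      rw [Bool.not_eq_false] at hne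
      rw [hne, cond_true] at h3
      exact absurd h3 (by decide)
    rw [ht] at h1 h2
    refine ⟨Y false, h1, Subtype.ext ?_⟩
    rw [h2]
    simp [sheetEl]
  choose σ hσ hσπ using hstab
  let sec : ↥(commutator Fi24) →* E ⧸ C := MonoidHom.mk' σ fun a b => by
    have h := hσ (a * b) 1
    rw [Subgroup.coe_mul, map_mul, Equiv.Perm.mul_apply, hσ b 1, hσ a] at h
    simpa using (congrArg Prod.fst h).symm
  have hcen : ∀ y, pb y = 1 → ∀ x, y * x = x * y := by
    intro y hy x
    obtain ⟨y, rfl⟩ := QuotientGroup.mk'_surjective C y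
    obtain ⟨x, rfl⟩ := QuotientGroup.mk'_surjective C x
    rw [← map_mul, ← map_mul]
    exact congrArg _ (Subgroup.mem_center_iff.1 (hker (MonoidHom.mem_ker.2 hy)) x).symm
  have hcomm : commutator (E ⧸ C) ≤ sec.range := by
    rw [commutator_def, Subgroup.commutator_le]
    intro a _ b _
    refine ⟨⁅pb a, pb b⁆, ?_⟩
    rw [map_commutatorElement]
    have za : pb (a * (sec (pb a))⁻¹) = 1 := by
      rw [map_mul, map_inv, show pb (sec (pb a)) = pb a from hσπ _, mul_inv_cancel]
    have zb : pb (b * (sec (pb b))⁻¹) = 1 := by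
      rw [map_mul, map_inv, show pb (sec (pb b)) = pb b from hσπ _, mul_inv_cancel]
    have ca := hcen _ za
    have cb := hcen _ zb
    rw [commutatorElement_def, commutatorElement_def]
    conv_rhs => rw [show a = a * (sec (pb a))⁻¹ * sec (pb a) from (inv_mul_cancel_right _ _).symm,
      show b = b * (sec (pb b))⁻¹ * sec (pb b) from (inv_mul_cancel_right _ _).symm]
    generalize a * (sec (pb a))⁻¹ = z at ca ⊢
    generalize b * (sec (pb b))⁻¹ = w at cb ⊢
    generalize sec (pb a) = u, sec (pb b) = v
    symm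
    calc z * u * (w * v) * (z * u)⁻¹ * (w * v)⁻¹
        = z * (u * w) * v * u⁻¹ * z⁻¹ * v⁻¹ * w⁻¹ := by group
      _ = z * (w * (u * v * u⁻¹)) * z⁻¹ * v⁻¹ * w⁻¹ := by rw [← cb u]; group
      _ = w * (u * v * u⁻¹ * v⁻¹) * w⁻¹ := by rw [ca]; group
      _ = u * v * u⁻¹ * v⁻¹ := by rw [cb]; group
  intro z hz
  have hmap : q z ∈ commutator (E ⧸ C) := by
    have h2 : (commutator E).map q ≤ commutator (E ⧸ C) := by
      rw [commutator_def, Subgroup.map_commutator]
      exact Subgroup.commutator_mono le_top le_top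
    exact h2 ⟨z, hstem hz, rfl⟩
  obtain ⟨g, hg⟩ := hcomm hmap
  have hg1 : g = 1 := by
    have := congrArg pb hg
    rw [hpb, MonoidHom.mem_ker.1 hz, show pb (sec g) = g from hσπ g] at this
    exact this
  rw [hg1, map_one] at hg
  exact (QuotientGroup.eq_one_iff z).1 hg.symm

end Ext

/-- The kernel of a finite stem extension is an image of the cyclic group of order three. -/
theorem stem_kernel {E : Type} [Group E] [Finite E] (π : E →* ↥(commutator Fi24))
    (hπ : Cfsg.IsStemExtension π) : ∃ f : Multiplicative (ZMod 3) →* π.ker, Function.Surjective f := by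
  obtain ⟨hsur, hker, hstem⟩ := hπ
  let c : π.ker := ⟨cc π hsur hker, cc_ker π hsur hker⟩
  have hc3 : c ^ 3 = 1 := Subtype.ext (cc_cube π hsur hker)
  let ψ : ZMod 3 →+ Additive π.ker := ZMod.lift 3 ⟨zmultiplesHom _ (Additive.ofMul c), by
    show (((3 : ℕ) : ℤ)) • Additive.ofMul c = 0
    rw [← ofMul_zpow, zpow_natCast, hc3]
    rfl⟩
  refine ⟨AddMonoidHom.toMultiplicativeLeft ψ, fun z => ?_⟩
  obtain ⟨n, hn⟩ := Subgroup.mem_zpowers_iff.1 (ker_le_span π hsur hker hstem z.2)
  refine ⟨Multiplicative.ofAdd ((n : ℤ) : ZMod 3), ?_⟩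
  show Additive.toMul (ψ ((n : ℤ) : ZMod 3)) = z
  rw [ZMod.lift_coe]
  show Additive.toMul (n • Additive.ofMul c) = z
  rw [toMul_zsmul]
  exact Subtype.ext hn

end CfsgLib.Sporadic.Fi24Mult
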