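import Cfsg.Agent.Lib.Sporadic.Fi24Mult.CoverDefs

/-!
# Kernel checks of relators on the triple cover
-/

set_option autoImplicit false
set_option maxRecDepth 100000
set_option Elab.async false

namespace CfsgLib.Sporadic.Fi24Mult

theorem rel_0 : relK 0 = true := by decide +kernel

theorem rel_1 : relK 1 = true := by decide +kernel

theorem rel_2 : relK 2 = true := by decide +kernel

theorem rel_3 : relK 3 = true := by decide +kernel

theorem rel_4 : relK 4 = true := by decide +kernel

theorem rel_5 : relK 5 = true := by decide +kernel

theorem rel_6 : relK 6 = true := by decide +kernel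

theorem rel_7 : relK 7 = true := by decide +kernel

theorem rel_8 : relK 8 = true := by decide +kernel

theorem rel_9 : relK 9 = true := by decide +kernel

theorem rel_10 : relK 10 = true := by decide +kernel

theorem rel_11 : relK 11 = true := by decide +kernel

theorem rel_12 : relK 12 = true := by decide +kernel

theorem rel_13 : relK 13 = true := by decide +kernel

theorem rel_14 : relK 14 = true := by decide +kernel

theorem rel_15 : relK 15 = true := by decide +kernel

theorem rel_16 : relK 16 = true := by decide +kernel

theorem rel_17 : relK 17 = true := by decide +kernel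

theorem rel_18 : relK 18 = true := by decide +kernel

theorem rel_19 : relK 19 = true := by decide +kernel

theorem rels_part0 : ∀ i, 0 ≤ i → i < 20 → relK i = true
  | 0, _, _ => rel_0
  | 1, _, _ => rel_1
  | 2, _, _ => rel_2
  | 3, _, _ => rel_3
  | 4, _, _ => rel_4
  | 5, _, _ => rel_5
  | 6, _, _ => rel_6
  | 7, _, _ => rel_7
  | 8, _, _ => rel_8
  | 9, _, _ => rel_9
  | 10, _, _ => rel_10
  | 11, _, _ => rel_11
  | 12, _, _ => rel_12
  | 13, _, _ => rel_13
  | 14, _, _ => rel_14
  | 15, _, _ => rel_15
  | 16, _, _ => rel_16
  | 17, _, _ => rel_17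
  | 18, _, _ => rel_18
  | 19, _, _ => rel_19
  | n + 20, _, h => absurd h (by omega)

end CfsgLib.Sporadic.Fi24Mult
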