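import Cfsg.Agent.Lib.Sporadic.Fi24Mult.CoverDefs

/-!
# Kernel checks of relators on the triple cover
-/

set_option autoImplicit false
set_option maxRecDepth 100000
set_option Elab.async false

namespace CfsgLib.Sporadic.Fi24Mult

theorem rel_20 : relK 20 = true := by decide +kernel

theorem rel_21 : relK 21 = true := by decide +kernel

theorem rel_22 : relK 22 = true := by decide +kernel

theorem rel_23 : relK 23 = true := by decide +kernel

theorem rel_24 : relK 24 = true := by decide +kernel

theorem rel_25 : relK 25 = true := by decide +kernel

theorem rel_26 : relK 26 = true := by decide +kernel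

theorem rel_27 : relK 27 = true := by decide +kernel

theorem rel_28 : relK 28 = true := by decide +kernel

theorem rel_29 : relK 29 = true := by decide +kernel

theorem rel_30 : relK 30 = true := by decide +kernel

theorem rel_31 : relK 31 = true := by decide +kernel

theorem rel_32 : relK 32 = true := by decide +kernel

theorem rel_33 : relK 33 = true := by decide +kernel

theorem rel_34 : relK 34 = true := by decide +kernel

theorem rel_35 : relK 35 = true := by decide +kernel

theorem rel_36 : relK 36 = true := by decide +kernel

theorem rel_37 : relK 37 = true := by decide +kernel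

theorem rel_38 : relK 38 = true := by decide +kernel

theorem rel_39 : relK 39 = true := by decide +kernel

theorem rels_part1 : ∀ i, 20 ≤ i → i < 40 → relK i = true
  | 20, _, _ => rel_20
  | 21, _, _ => rel_21
  | 22, _, _ => rel_22
  | 23, _, _ => rel_23
  | 24, _, _ => rel_24
  | 25, _, _ => rel_25
  | 26, _, _ => rel_26
  | 27, _, _ => rel_27
  | 28, _, _ => rel_28
  | 29, _, _ => rel_29
  | 30, _, _ => rel_30
  | 31, _, _ => rel_31
  | 32, _, _ => rel_32
  | 33, _, _ => rel_33
  | 34, _, _ => rel_34
  | 35, _, _ => rel_35
  | 36, _, _ => rel_36
  | 37, _, _ => rel_37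
  | 38, _, _ => rel_38
  | 39, _, _ => rel_39
  | 0, h, _ => absurd h (by omega)
  | 1, h, _ => absurd h (by omega)
  | 2, h, _ => absurd h (by omega)
  | 3, h, _ => absurd h (by omega)
  | 4, h, _ => absurd h (by omega)
  | 5, h, _ => absurd h (by omega)
  | 6, h, _ => absurd h (by omega)
  | 7, h, _ => absurd h (by omega)
  | 8, h, _ => absurd h (by omega)
  | 9, h, _ => absurd h (by omega)
  | 10, h, _ => absurd h (by omega)
  | 11, h, _ => absurd h (by omega)
  | 12, h, _ => absurd h (by omega)
  | 13, h, _ => absurd h (by omega)
  | 14, h, _ => absurd h (by omega)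
  | 15, h, _ => absurd h (by omega)
  | 16, h, _ => absurd h (by omega)
  | 17, h, _ => absurd h (by omega)
  | 18, h, _ => absurd h (by omega)
  | 19, h, _ => absurd h (by omega)
  | n + 40, _, h => absurd h (by omega)

end CfsgLib.Sporadic.Fi24Mult
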