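import Cfsg.Agent.Lib.Sporadic.Fi24Mult.CoverDefs

/-!
# Kernel checks of relators on the triple cover
-/

set_option autoImplicit false
set_option maxRecDepth 100000
set_option Elab.async false

namespace CfsgLib.Sporadic.Fi24Mult

theorem rel_40 : relK 40 = true := by decide +kernel

theorem rel_41 : relK 41 = true := by decide +kernel

theorem rel_42 : relK 42 = true := by decide +kernel

theorem rel_43 : relK 43 = true := by decide +kernel

theorem rel_44 : relK 44 = true := by decide +kernel

theorem rel_45 : relK 45 = true := by decide +kernel

theorem rel_46 : relK 46 = true := by decide +kernel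

theorem rel_47 : relK 47 = true := by decide +kernel

theorem rel_48 : relK 48 = true := by decide +kernel

theorem rel_49 : relK 49 = true := by decide +kernel

theorem rel_50 : relK 50 = true := by decide +kernel

theorem rel_51 : relK 51 = true := by decide +kernel

theorem rel_52 : relK 52 = true := by decide +kernel

theorem rel_53 : relK 53 = true := by decide +kernel

theorem rel_54 : relK 54 = true := by decide +kernel

theorem rel_55 : relK 55 = true := by decide +kernel

theorem rel_56 : relK 56 = true := by decide +kernel

theorem rel_57 : relK 57 = true := by decide +kernel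

theorem rel_58 : relK 58 = true := by decide +kernel

theorem rel_59 : relK 59 = true := by decide +kernel

theorem rels_part2 : ∀ i, 40 ≤ i → i < 60 → relK i = true
  | 40, _, _ => rel_40
  | 41, _, _ => rel_41
  | 42, _, _ => rel_42
  | 43, _, _ => rel_43
  | 44, _, _ => rel_44
  | 45, _, _ => rel_45
  | 46, _, _ => rel_46
  | 47, _, _ => rel_47
  | 48, _, _ => rel_48
  | 49, _, _ => rel_49
  | 50, _, _ => rel_50
  | 51, _, _ => rel_51
  | 52, _, _ => rel_52
  | 53, _, _ => rel_53
  | 54, _, _ => rel_54
  | 55, _, _ => rel_55
  | 56, _, _ => rel_56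
  | 57, _, _ => rel_57
  | 58, _, _ => rel_58
  | 59, _, _ => rel_59
  | 0, h, _ => absurd h (by omega)
  | 1, h, _ => absurd h (by omega)
  | 2, h, _ => absurd h (by omega)
  | 3, h, _ => absurd h (by omega)
  | 4, h, _ => absurd h (by omega)
  | 5, h, _ => absurd h (by omega)
  | 6, h, _ => absurd h (by omega)
  | 7, h, _ => absurd h (by omega)
  | 8, h, _ => absurd h (by omega)
  | 9, h, _ => absurd h (by omega)
  | 10, h, _ => absurd h (by omega)
  | 11, h, _ => absurd h (by omega)
  | 12, h, _ => absurd h (by omega)
  | 13, h, _ => absurd h (by omega)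
  | 14, h, _ => absurd h (by omega)
  | 15, h, _ => absurd h (by omega)
  | 16, h, _ => absurd h (by omega)
  | 17, h, _ => absurd h (by omega)
  | 18, h, _ => absurd h (by omega)
  | 19, h, _ => absurd h (by omega)
  | 20, h, _ => absurd h (by omega)
  | 21, h, _ => absurd h (by omega)
  | 22, h, _ => absurd h (by omega)
  | 23, h, _ => absurd h (by omega)
  | 24, h, _ => absurd h (by omega)
  | 25, h, _ => absurd h (by omega)
  | 26, h, _ => absurd h (by omega)
  | 27, h, _ => absurd h (by omega)
  | 28, h, _ => absurd h (by omega)
  | 29, h, _ => absurd h (by omega)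
  | 30, h, _ => absurd h (by omega)
  | 31, h, _ => absurd h (by omega)
  | 32, h, _ => absurd h (by omega)
  | 33, h, _ => absurd h (by omega)
  | 34, h, _ => absurd h (by omega)
  | 35, h, _ => absurd h (by omega)
  | 36, h, _ => absurd h (by omega)
  | 37, h, _ => absurd h (by omega)
  | 38, h, _ => absurd h (by omega)
  | 39, h, _ => absurd h (by omega)
  | n + 60, _, h => absurd h (by omega)

end CfsgLib.Sporadic.Fi24Mult
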