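import Cfsg.Agent.Lib.Sporadic.Fi24Mult.CoverDefs

/-!
# Kernel checks of relators on the triple cover
-/

set_option autoImplicit false
set_option maxRecDepth 100000
set_option Elab.async false

namespace CfsgLib.Sporadic.Fi24Mult

theorem rel_60 : relK 60 = true := by decide +kernel

theorem rel_61 : relK 61 = true := by decide +kernel

theorem rel_62 : relK 62 = true := by decide +kernel

theorem rel_63 : relK 63 = true := by decide +kernel

theorem rel_64 : relK 64 = true := by decide +kernel

theorem rel_65 : relK 65 = true := by decide +kernel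

theorem rel_66 : relK 66 = true := by decide +kernel

theorem rel_67 : relK 67 = true := by decide +kernel

theorem rel_68 : relK 68 = true := by decide +kernel

theorem rel_69 : relK 69 = true := by decide +kernel

theorem rel_70 : relK 70 = true := by decide +kernel

theorem rel_71 : relK 71 = true := by decide +kernel

theorem rel_72 : relK 72 = true := by decide +kernel

theorem rel_73 : relK 73 = true := by decide +kernel

theorem rel_74 : relK 74 = true := by decide +kernel

theorem rel_75 : relK 75 = true := by decide +kernel

theorem rel_76 : relK 76 = true := by decide +kernel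

theorem rel_77 : relK 77 = true := by decide +kernel

theorem rel_78 : relK 78 = true := by decide +kernel

theorem rel_79 : relK 79 = true := by decide +kernel

theorem rels_part3 : ∀ i, 60 ≤ i → i < 80 → relK i = true
  | 60, _, _ => rel_60
  | 61, _, _ => rel_61
  | 62, _, _ => rel_62
  | 63, _, _ => rel_63
  | 64, _, _ => rel_64
  | 65, _, _ => rel_65
  | 66, _, _ => rel_66
  | 67, _, _ => rel_67
  | 68, _, _ => rel_68
  | 69, _, _ => rel_69
  | 70, _, _ => rel_70
  | 71, _, _ => rel_71
  | 72, _, _ => rel_72
  | 73, _, _ => rel_73
  | 74, _, _ => rel_74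
  | 75, _, _ => rel_75
  | 76, _, _ => rel_76
  | 77, _, _ => rel_77
  | 78, _, _ => rel_78
  | 79, _, _ => rel_79
  | 0, h, _ => absurd h (by omega)
  | 1, h, _ => absurd h (by omega)
  | 2, h, _ => absurd h (by omega)
  | 3, h, _ => absurd h (by omega)
  | 4, h, _ => absurd h (by omega)
  | 5, h, _ => absurd h (by omega)
  | 6, h, _ => absurd h (by omega)
  | 7, h, _ => absurd h (by omega)
  | 8, h, _ => absurd h (by omega)
  | 9, h, _ => absurd h (by omega)
  | 10, h, _ => absurd h (by omega)
  | 11, h, _ => absurd h (by omega)
  | 12, h, _ => absurd h (by omega)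
  | 13, h, _ => absurd h (by omega)
  | 14, h, _ => absurd h (by omega)
  | 15, h, _ => absurd h (by omega)
  | 16, h, _ => absurd h (by omega)
  | 17, h, _ => absurd h (by omega)
  | 18, h, _ => absurd h (by omega)
  | 19, h, _ => absurd h (by omega)
  | 20, h, _ => absurd h (by omega)
  | 21, h, _ => absurd h (by omega)
  | 22, h, _ => absurd h (by omega)
  | 23, h, _ => absurd h (by omega)
  | 24, h, _ => absurd h (by omega)
  | 25, h, _ => absurd h (by omega)
  | 26, h, _ => absurd h (by omega)
  | 27, h, _ => absurd h (by omega)
  | 28, h, _ => absurd h (by omega)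
  | 29, h, _ => absurd h (by omega)
  | 30, h, _ => absurd h (by omega)
  | 31, h, _ => absurd h (by omega)
  | 32, h, _ => absurd h (by omega)
  | 33, h, _ => absurd h (by omega)
  | 34, h, _ => absurd h (by omega)
  | 35, h, _ => absurd h (by omega)
  | 36, h, _ => absurd h (by omega)
  | 37, h, _ => absurd h (by omega)
  | 38, h, _ => absurd h (by omega)
  | 39, h, _ => absurd h (by omega)
  | 40, h, _ => absurd h (by omega)
  | 41, h, _ => absurd h (by omega)
  | 42, h, _ => absurd h (by omega)
  | 43, h, _ => absurd h (by omega)
  | 44, h, _ => absurd h (by omega)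
  | 45, h, _ => absurd h (by omega)
  | 46, h, _ => absurd h (by omega)
  | 47, h, _ => absurd h (by omega)
  | 48, h, _ => absurd h (by omega)
  | 49, h, _ => absurd h (by omega)
  | 50, h, _ => absurd h (by omega)
  | 51, h, _ => absurd h (by omega)
  | 52, h, _ => absurd h (by omega)
  | 53, h, _ => absurd h (by omega)
  | 54, h, _ => absurd h (by omega)
  | 55, h, _ => absurd h (by omega)
  | 56, h, _ => absurd h (by omega)
  | 57, h, _ => absurd h (by omega)
  | 58, h, _ => absurd h (by omega)
  | 59, h, _ => absurd h (by omega)
  | n + 80, _, h => absurd h (by omega)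

end CfsgLib.Sporadic.Fi24Mult
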