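import Cfsg.Agent.Lib.Sporadic.Fi24Mult.CoverDefs

/-!
# Kernel check of the word of order seventeen on the triple cover
-/

set_option autoImplicit false
set_option maxRecDepth 100000
set_option Elab.async false

namespace CfsgLib.Sporadic.Fi24Mult

theorem zeta_ok : zK = true := by decide +kernel

theorem relWords_length : relWords.length = 80 := by decide +kernel

end CfsgLib.Sporadic.Fi24Mult
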