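import Cfsg.Agent.Lib.Sporadic.Fi24Mult.CheckRels0
import Cfsg.Agent.Lib.Sporadic.Fi24Mult.CheckRels1
import Cfsg.Agent.Lib.Sporadic.Fi24Mult.CheckRels2
import Cfsg.Agent.Lib.Sporadic.Fi24Mult.CheckRels3
import Cfsg.Agent.Lib.Sporadic.Fi24Mult.CheckZeta

/-!
# The group without the long relation acting on three sheets over the model

The element killed by that relation has order three there, and a letter conjugates it to its inverse.
-/

set_option autoImplicit false
set_option maxRecDepth 100000

open Cfsg.Spor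

namespace CfsgLib.Sporadic.Fi24Mult

open CosetCert (relList appWord)
open Fi24Model (gpos gcode netsOf okNet_netsOf netPerm_netsOf wordCode size evalP evalP_reduce evalP_flatMap wperm
  gperm)

theorem rel_all {i : ℕ} (h : i < 80) : relK i = true := by
  by_cases h0 : i < 20
  · exact rels_part0 i (Nat.zero_le _) h0
  by_cases h1 : i < 40
  · exact rels_part1 i (Nat.not_lt.1 h0) h1
  by_cases h2 : i < 60
  · exact rels_part2 i (Nat.not_lt.1 h1) h2
  · exact rels_part3 i (Nat.not_lt.1 h2) h

theorem val0_rel {w : List ℕ} (hw : w ∈ relWords) : val0 w = 1 := by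
  obtain ⟨r, hr, rfl⟩ := List.mem_map.1 hw
  exact val0_one_of_isRel (List.any_eq_true.2 ⟨r, hr, beq_self_eq_true _⟩)

theorem relWords_lt : relWords.all (fun w => w.all fun x => Nat.blt x 12) = true := by decide +kernel

theorem rel_mono {w : List ℕ} (hw : w ∈ relWords) : (w.map gmono).prod = 1 := by
  have hlt : ∀ x ∈ w, x < 12 := fun x hx =>
    Nat.blt_eq.mp (List.all_eq_true.1 (List.all_eq_true.1 relWords_lt w hw) x hx)
  have hbase : wperm w = 1 := by
    rw [← Fi24Model.hom_val hlt, ← proj_val hlt, val0_rel hw, map_one, map_one]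
  obtain ⟨i, hi, e⟩ := List.mem_iff_getElem.1 hw
  have hk := rel_all (relWords_length ▸ hi)
  rw [relK, List.getD_eq_getElem _ _ hi, e] at hk
  rw [← evalM_word]
  refine flatK_spec hk ?_
  rw [wordCode, evalP_reduce, evalP_flatMap, hbase]

theorem gmono_sq {n : ℕ} (hn : n < 12) : gmono n * gmono n = 1 := by
  have key : ∀ m < 12, [m, m] ∈ relWords := by decide +kernel
  simpa using rel_mono (key n hn)

theorem gmono_rels : ∀ r ∈ relList Fi24.edges extra0 coding0.pairs,
    ((appWord gpos gpos r).reverse.map gmono).prod = 1 := fun r hr =>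
  rel_mono (List.mem_map.2 ⟨r, hr, rfl⟩)

/-- The action on three sheets. -/
noncomputable def cover : Γ0 →* Equiv.Perm (Fin size × ZMod 3) :=
  PresentedGroup.toGroup (lift_rel0 gmono (fun _ hn => gmono_sq hn) gmono_rels)

theorem cover_gen {n : ℕ} (hn : n < 12) : cover (gen0 n) = gmono n := by
  obtain ⟨x, rfl⟩ := Fi24Model.exists_gpos hn
  rw [gen0_gpos]
  exact PresentedGroup.toGroup.of _

theorem cover_val {w : List ℕ} (hw : ∀ x ∈ w, x < 12) : cover (val0 w) = (w.map gmono).prod := by
  induction w with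
  | nil => exact map_one _
  | cons x t ih =>
    rw [val0_cons, map_mul, cover_gen (hw x List.mem_cons_self),
      ih fun y hy => hw y (List.mem_cons_of_mem _ hy)]
    rfl

theorem gcode_head {x : ℕ} (hx : x < 12) : ∃ f D, gmono x = mono (gperm x) f D ∧ f = true := by
  have hneg : ∀ y < 12, ((gcode y).map negOf).foldl Bool.xor false = true := by decide +kernel
  have key : ∀ l : List ℕ, ∀ pre f D, evalM pre = mono (evalP pre) f D →
      ∃ D', evalM (pre ++ l) = mono (evalP (pre ++ l)) ((l.map negOf).foldl Bool.xor f) D' := by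
    intro l
    induction l with
    | nil => intro pre f D h; exact ⟨D, by simpa using h⟩
    | cons i t ih =>
      intro pre f D h
      obtain ⟨D', hD'⟩ := ih (pre ++ [i]) (f ^^ negOf i)
        (fun u => (bif f then -shiftAt i u else shiftAt i u) + D (Fi24Model.primPerm i u)) (by
          rw [evalM_append, h, Fi24Model.evalP_append, show evalM [i] = mprim i by simp [evalM],
            show evalP [i] = Fi24Model.primPerm i by simp [evalP], mprim, mono_mul])
      exact ⟨D', by rwa [List.append_assoc] at hD'⟩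
  obtain ⟨D', h⟩ := key (gcode x) [] false (fun _ => 0) mono_one.symm
  rw [List.nil_append] at h
  exact ⟨_, D', h, hneg x hx⟩

theorem zeta_facts : ∃ D : Fin size → ZMod 3, cover zz0 = mono 1 false D ∧
    (∃ u, D u ≠ 0) ∧ ∀ x < 12, ∀ u, D (gperm x u) = D u := by
  obtain ⟨f, a, b, hk, -, he⟩ := runM_spec (α := Bool) (wordCode (List.replicate 17 zWord).flatten) [] false 0 0
    (fun u => by simp) evalM_nil'
  have hz := zeta_ok
  rw [zK, hk] at hz
  simp only [Bool.and_eq_true, Bool.not_eq_true', Nat.beq_eq, List.all_eq_true, List.mem_range] at hz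
  obtain ⟨rfl, h1, hall⟩ := hz
  have hlt : ∀ x ∈ (List.replicate 17 zWord).flatten, x < 12 := by decide
  have hbase : evalP (wordCode (List.replicate 17 zWord).flatten) = 1 := by
    rw [wordCode, evalP_reduce, evalP_flatMap, ← Fi24Model.hom_val hlt, ← proj_val hlt, ← zz0, proj_zz0, map_one]
  refine ⟨fun u => dig a b u, ?_, ⟨⟨0, by norm_num⟩, ?_⟩, fun x hx u => ?_⟩
  · rw [zz0, cover_val hlt, ← evalM_word]
    rw [List.nil_append, hbase] at he
    exact he
  · have h0 := congrArg (fun v => Nat.testBit v 0) h1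
    change (1 &&& (a ||| b)).testBit 0 = Nat.testBit 1 0 at h0
    simp only [Nat.testBit_and, Nat.testBit_or, show Nat.testBit 1 0 = true from rfl, Bool.true_and,
      Bool.or_eq_true] at h0
    show dig a b 0 ≠ 0
    unfold dig
    rcases ha : a.testBit 0 with _ | _
    · rw [ha] at h0
      simp only [Bool.false_eq_true, false_or] at h0
      rw [h0]
      decide
    · rw [cond_true]; decide
  · obtain ⟨a', b', hk', ha, hb, -⟩ := run2_spec (α := Bool) (netsOf (gcode x)) (okNet_netsOf _) a b
    have h2 := hall x hx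
    rw [hk'] at h2
    simp only [Bool.and_eq_true, Nat.beq_eq] at h2
    obtain ⟨rfl, rfl⟩ := h2
    have e : gperm x u = Fi24Model.netPerm (netsOf (gcode x)) u := by rw [netPerm_netsOf]; rfl
    show dig _ _ (gperm x u : Fin size) = dig _ _ (u : Fin size)
    simp only [dig, e, ← ha, ← hb]

theorem cover_zz0_ne : cover zz0 ≠ 1 := by
  obtain ⟨D, hD, ⟨u, hu⟩, -⟩ := zeta_facts
  intro h
  rw [hD] at h
  have := congrArg (fun p : Equiv.Perm (Fin size × ZMod 3) => (p (u, 0)).2) h
  simp [mono_apply] at this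
  exact hu this

theorem cover_zz0_cube : cover zz0 ^ 3 = 1 := by
  obtain ⟨D, hD, -, -⟩ := zeta_facts
  rw [hD, pow_succ, pow_two, mono_mul, mono_mul, ← mono_one]
  refine congrArg₂ (fun p D' => mono p false D') (one_mul _) (funext fun u => ?_)
  simp only [Bool.xor_false, cond_false, one_mul, Equiv.Perm.one_apply]
  have h3 : ∀ d : ZMod 3, d + (d + d) = 0 := by decide
  exact h3 _

theorem cover_conj {n : ℕ} (hn : n < 12) :
    cover (gen0 n) * cover zz0 * cover (gen0 n) = (cover zz0)⁻¹ := by
  obtain ⟨D, hD, -, hinv⟩ := zeta_facts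
  obtain ⟨f, d, hx, rfl⟩ := gcode_head hn
  have hsq := gmono_sq hn
  rw [cover_gen hn, hD, hx] at *
  refine (eq_inv_of_mul_eq_one_left ?_)
  refine Equiv.ext fun ⟨u, i⟩ => ?_
  have h2 := congrArg (fun p : Equiv.Perm (Fin size × ZMod 3) => p (u, i + D u)) hsq
  simp only [Equiv.Perm.mul_apply, mono_apply, Equiv.Perm.one_apply, Prod.mk.injEq, cond_true] at h2
  simp only [Equiv.Perm.mul_apply, mono_apply, Equiv.Perm.one_apply, cond_true, cond_false,
    Prod.mk.injEq, hinv n hn u]
  refine ⟨h2.1, ?_⟩
  linear_combination h2.2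

end CfsgLib.Sporadic.Fi24Mult
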