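import Cfsg.Agent.Lib.Sporadic.Fi24Mult.Gamma

/-!
# The walk along the relation of order seventeen in the group without that relation

The word of order seventeen is a conjugate of the commutator of a word `s` without `k` and `k`.
-/

set_option autoImplicit false
set_option maxRecDepth 100000

open Cfsg.Spor

namespace CfsgLib.Sporadic.Fi24Mult

open CosetCert (relList appWord lift_cox_eq_one)
open CosetCert.Fi23P (lH sub pt index_H_eq)
open CosetCert.Fi23P.Two (el el_append el_nil el_single el_reverse el_img eq_of_sameK gpt gpt_val genPts stab_le pathWord path_ok sameK)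
open Fi24Model (gpos wordH wordH_spec tr tr_lt eqH code_lt code_wordH sevenWord spiderWord sameCoset exists_gpos)
open Fi24Model.UB (baseW repH repB imgWd imgB repK repT inK0 inK0_spec inK0_wordH fixA stepOK runW preW postW startW steps sWord yWord gA kapA expand conjK conjK_spec expand_wordH fixTwoK fixTwo_ok conjAK conjA_ok repK rep_ok)

theorem l_comm {n : ℕ} (hn : n < 12) (h1 : n ≠ 1) : Commute (gen0 0) (gen0 n) := by
  rcases Nat.eq_zero_or_pos n with rfl | hp
  · exact Commute.refl _
  have hrel : ∀ m < 12, 2 ≤ m → isRel0 [0, m, 0, m] = true := by decide +kernel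
  have h := val0_one_of_isRel (hrel n hn (by omega))
  simp only [val0_cons, val0_nil, mul_one] at h
  have h0 := gen0_sq (show 0 < 12 by norm_num)
  have hn' := gen0_sq hn
  show gen0 0 * gen0 n = gen0 n * gen0 0
  calc gen0 0 * gen0 n = gen0 0 * gen0 n * (gen0 0 * (gen0 0 * (gen0 n * gen0 n))) := by
        rw [hn', mul_one, h0, mul_one]
    _ = (gen0 0 * (gen0 n * (gen0 0 * gen0 n))) * ((gen0 n)⁻¹ * (gen0 0)⁻¹ * (gen0 0 * gen0 0) * (gen0 n * gen0 n)) := by
        group
    _ = gen0 n * gen0 0 := by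
        rw [h, h0, hn', inv_eq_of_mul_eq_one_right hn', inv_eq_of_mul_eq_one_right h0]
        group

/-- The subgroup generated by all letters but `k`. -/
noncomputable def Hsub : Subgroup Γ0 := Subgroup.closure (gen0 '' {n | n < 12 ∧ n ≠ 1})

theorem gen0_mem_H {n : ℕ} (hn : n < 12) (h1 : n ≠ 1) : gen0 n ∈ Hsub :=
  Subgroup.subset_closure ⟨n, ⟨hn, h1⟩, rfl⟩

theorem of_mem_H {x : Fi24.Gen} (h1 : gpos x ≠ 1) : (PresentedGroup.of x : Γ0) ∈ Hsub := by
  rw [← gen0_gpos]
  exact gen0_mem_H (by cases x <;> decide) h1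

theorem val0_mem_H {w : List ℕ} (h : wordH w = true) : val0 w ∈ Hsub := by
  have h' := wordH_spec h
  clear h
  induction w with
  | nil => exact one_mem _
  | cons x t ih =>
    rw [val0_cons]
    exact mul_mem (gen0_mem_H (h' x List.mem_cons_self).1 (h' x List.mem_cons_self).2)
      (ih fun y hy => h' y (List.mem_cons_of_mem _ hy))

theorem l_central {g : Γ0} (hg : g ∈ Hsub) : Commute (gen0 0) g := by
  induction hg using Subgroup.closure_induction with
  | mem x hx => obtain ⟨n, ⟨hn, h1⟩, rfl⟩ := hx; exact l_comm hn h1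
  | one => exact Commute.one_right _
  | mul x y _ _ hx hy => exact hx.mul_right hy
  | inv x _ hx => exact hx.inv_right

/-- The image of a generator of Fi23. -/
noncomputable def embGen (x : Fi23.Gen) : Γ0 := gen0 (CosetCert.Fi23P.code x + 2) * gen0 0

theorem lift_embGen (r : FreeGroup Fi23.Gen) :
    FreeGroup.lift embGen r =
      val0 ((r.toWord.map fun p => CosetCert.Fi23P.code p.1 + 2)) * gen0 0 ^ r.toWord.length := by
  conv_lhs => rw [← FreeGroup.mk_toWord (x := r), FreeGroup.lift_mk]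
  induction r.toWord with
  | nil => simp [val0_nil]
  | cons p t ih =>
    rw [List.map_cons, List.prod_cons, ih, List.map_cons, val0_cons, List.length_cons]
    obtain ⟨x, b⟩ := p
    have hc : Commute (gen0 0) (val0 (t.map fun p => CosetCert.Fi23P.code p.1 + 2)) := by
      refine l_central (val0_mem_H ?_)
      simp only [wordH, List.all_map, List.all_eq_true]
      intro q _
      obtain ⟨q, _⟩ := q
      exact code_wordH q
    have e : (cond b (embGen x) (embGen x)⁻¹) = embGen x := by
      cases b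
      · show (embGen x)⁻¹ = embGen x
        rw [embGen, mul_inv_rev, inv_eq_of_mul_eq_one_right (gen0_sq (code_lt x).1),
          inv_eq_of_mul_eq_one_right (gen0_sq (show 0 < 12 by norm_num))]
        exact (l_comm (code_lt x).1 (code_lt x).2).eq
      · rfl
    rw [e, embGen, pow_succ']
    calc gen0 (CosetCert.Fi23P.code x + 2) * gen0 0 *
          (val0 (t.map fun p => CosetCert.Fi23P.code p.1 + 2) * gen0 0 ^ t.length)
        = gen0 (CosetCert.Fi23P.code x + 2) * (gen0 0 * val0 (t.map fun p => CosetCert.Fi23P.code p.1 + 2)) *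
            gen0 0 ^ t.length := by group
      _ = _ := by rw [hc.eq]; group

theorem val0_seven : val0 sevenWord = gen0 0 := by
  have h := val0_one_of_isRel (w := [0] ++ sevenWord.reverse) (by decide +kernel)
  rw [val0_append, val0_single, val0_reverse (by decide), mul_inv_eq_one] at h
  exact h.symm

theorem l_pow (n : ℕ) : gen0 0 ^ n = gen0 0 ^ (n % 2) := by
  conv_lhs => rw [← Nat.div_add_mod n 2, pow_add, pow_mul, pow_two, gen0_sq (by norm_num), one_pow, one_mul]


theorem emb_rel : ∀ r ∈ coxRelators Fi23.edges ∪ {r | r ∈ Fi23.extra}, FreeGroup.lift embGen r = 1 := by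
  refine lift_cox_eq_one embGen CosetCert.Fi23P.coding.pairs_cover fun r hr => ?_
  rw [lift_embGen, l_pow]
  have key : ∀ r ∈ relList Fi23.edges Fi23.extra CosetCert.Fi23P.coding.pairs,
      (isRel0 (r.toWord.map fun p => CosetCert.Fi23P.code p.1 + 2) = true ∧ r.toWord.length % 2 = 0) ∨
      ((r.toWord.map fun p => CosetCert.Fi23P.code p.1 + 2) = spiderWord ∧ r.toWord.length % 2 = 0) ∨
      ((r.toWord.map fun p => CosetCert.Fi23P.code p.1 + 2) = sevenWord ∧ r.toWord.length % 2 = 1) := by
    decide +kernel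
  rcases key r hr with ⟨h, e⟩ | ⟨h, e⟩ | ⟨h, e⟩
  · rw [val0_one_of_isRel h, e, pow_zero, one_mul]
  · rw [h, e, pow_zero, mul_one]
    exact spider0
  · rw [h, e, pow_one, val0_seven, gen0_sq (by norm_num)]

/-- The map of Fi23. -/
noncomputable def emb : Fi23 →* Γ0 := PresentedGroup.toGroup (emb_rel)

theorem emb_gen {x : ℕ} (hx : x < 10) :
    emb (CosetCert.Fi23P.coding.gen x) = gen0 (x + 2) * gen0 0 := by
  obtain ⟨a, rfl⟩ : ∃ a : Fi23.Gen, CosetCert.Fi23P.code a = x := by
    refine ⟨CosetCert.Fi23P.gens.getD x Fi23.Gen.a, ?_⟩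
    revert x
    decide
  rw [show CosetCert.Fi23P.coding.gen (CosetCert.Fi23P.code a) = PresentedGroup.of a from
    CosetCert.Fi23P.coding.gen_code a]
  exact PresentedGroup.toGroup.of (emb_rel)

theorem emb_mem_H (g : Fi23) : emb g ∈ Hsub := by
  induction g using PresentedGroup.induction_on with
  | H r =>
    show FreeGroup.lift embGen r ∈ Hsub
    rw [lift_embGen]
    refine mul_mem (val0_mem_H ?_) (pow_mem (gen0_mem_H (by norm_num) (by norm_num)) _)
    simp only [wordH, List.all_map, List.all_eq_true]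
    intro q _
    obtain ⟨q, _⟩ := q
    exact code_wordH q

theorem val0_eq_emb {w : List ℕ} (h : wordH w = true) : val0 w = emb (el (tr w)) * gen0 0 ^ w.length := by
  have h' := wordH_spec h
  clear h
  induction w with
  | nil => simp [tr, el_nil, val0_nil]
  | cons x t ih =>
    obtain ⟨hx, hx1⟩ := h' x List.mem_cons_self
    have hc := l_central (emb_mem_H (el (tr t)))
    rw [val0_cons, ih fun y hy => h' y (List.mem_cons_of_mem _ hy), List.length_cons, pow_succ']
    rcases Nat.eq_zero_or_pos x with rfl | hp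
    · rw [show tr (0 :: t) = tr t from rfl, ← mul_assoc, hc.eq, mul_assoc]
    · have e : tr (x :: t) = tr t ++ [x - 2] := by
        simp [tr, show Nat.beq x 0 = false from Bool.eq_false_iff.2 fun e => by
          have := Nat.eq_of_beq_eq_true e; omega]
      rw [e, el_append, el_single, map_mul, emb_gen (by omega), show x - 2 + 2 = x by omega]
      calc gen0 x * (emb (el (tr t)) * gen0 0 ^ t.length)
          = gen0 x * gen0 0 * (gen0 0 * emb (el (tr t))) * gen0 0 ^ t.length := by
            rw [mul_assoc (gen0 x) (gen0 0), ← mul_assoc (gen0 0) (gen0 0), gen0_sq (by norm_num), one_mul, mul_assoc]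
        _ = _ := by rw [hc.eq]; group

theorem val0_eq_of_eqH {a b : List ℕ} (h : eqH a b = true) : val0 a = val0 b := by
  simp only [eqH, Bool.and_eq_true, Nat.beq_eq] at h
  obtain ⟨⟨⟨ha, hb⟩, hl⟩, hK⟩ := h
  rw [val0_eq_emb ha, val0_eq_emb hb, eq_of_sameK (tr_lt ha) (tr_lt hb) hK, l_pow a.length,
    show a.length % 2 = b.length % 2 from hl, ← l_pow]

theorem exists_emb {g : Γ0} (hg : g ∈ Hsub) : ∃ x e, g = emb x * gen0 0 ^ e := by
  induction hg using Subgroup.closure_induction with
  | mem x hx =>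
    obtain ⟨n, ⟨hn, h1⟩, rfl⟩ := hx
    refine ⟨el (tr [n]), [n].length, ?_⟩
    have := val0_eq_emb (w := [n]) (by
      simp only [wordH, List.all_cons, List.all_nil, Bool.and_true, Bool.and_eq_true, Nat.blt_eq,
        Bool.not_eq_true']
      exact ⟨hn, Bool.eq_false_iff.2 fun e => h1 (Nat.eq_of_beq_eq_true e)⟩)
    rwa [val0_single] at this
  | one => exact ⟨1, 0, by simp⟩
  | mul x y _ _ hx hy =>
    obtain ⟨a, i, rfl⟩ := hx
    obtain ⟨b, j, rfl⟩ := hy
    refine ⟨a * b, i + j, ?_⟩
    have hc := (l_central (emb_mem_H b)).pow_left i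
    rw [map_mul, pow_add]
    calc emb a * gen0 0 ^ i * (emb b * gen0 0 ^ j)
        = emb a * (gen0 0 ^ i * emb b) * gen0 0 ^ j := by group
      _ = _ := by rw [hc.eq]; group
  | inv x _ hx =>
    obtain ⟨a, i, rfl⟩ := hx
    refine ⟨a⁻¹, i, ?_⟩
    have hc := ((l_central (emb_mem_H a⁻¹)).pow_left i)
    rw [mul_inv_rev, ← map_inv, ← hc.eq]
    congr 1
    exact inv_eq_of_mul_eq_one_right (by
      rw [← pow_add, ← two_mul, pow_mul, pow_two, gen0_sq (by norm_num), one_pow])


/-- The coset of a word. -/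
noncomputable def cz (w : List ℕ) : Γ0 ⧸ Hsub := ((val0 w : Γ0) : Γ0 ⧸ Hsub)

theorem smul_cz (a b : List ℕ) : val0 a • cz b = cz (a ++ b) := by
  show ((val0 a * val0 b : Γ0) : Γ0 ⧸ Hsub) = _
  rw [← val0_append]
  rfl

theorem cz_append_mem {a b : List ℕ} (hb : val0 b ∈ Hsub) : cz (a ++ b) = cz a := by
  rw [cz, cz, QuotientGroup.eq, val0_append, mul_inv_rev, inv_mul_cancel_right]
  exact inv_mem hb

theorem smul_cz_one {g : Γ0} (hg : g ∈ Hsub) : g • cz [] = cz [] := by
  show ((g * val0 [] : Γ0) : Γ0 ⧸ Hsub) = _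
  rw [cz, QuotientGroup.eq, val0_nil, mul_one, mul_one]
  exact inv_mem hg

theorem coset_eq_cz {a b : List ℕ} (h : sameCoset a b = true) : cz a = cz b :=
  coset_eq0 (fun x hx => of_mem_H fun e => by rw [e] at hx; exact absurd hx (by decide)) h

theorem commute_of_isRel {p q : ℕ} (hp : p < 12) (hq : q < 12) (h : isRel0 [p, q, p, q] = true) :
    Commute (gen0 p) (gen0 q) := by
  have e := val0_one_of_isRel h
  simp only [val0_cons, val0_nil, mul_one] at e
  have e2 : gen0 p * gen0 q = (gen0 p * gen0 q)⁻¹ :=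
    (inv_eq_of_mul_eq_one_right (by rw [mul_assoc]; exact e)).symm
  rw [mul_inv_rev, inv_eq_of_mul_eq_one_right (gen0_sq hp), inv_eq_of_mul_eq_one_right (gen0_sq hq)] at e2
  exact e2

theorem k_comm {x : ℕ} (h1 : 3 ≤ x) (h2 : x < 12) : Commute (gen0 1) (gen0 x) :=
  commute_of_isRel (by norm_num) h2
    ((show ∀ y < 12, 3 ≤ y → isRel0 [1, y, 1, y] = true by decide +kernel) x h2 h1)

theorem k_comm_word {w : List ℕ} (h : inK0 w = true) : Commute (gen0 1) (val0 w) := by
  induction w with
  | nil => exact Commute.one_right _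
  | cons x t ih =>
    have hh := inK0_spec h
    rw [val0_cons]
    refine (k_comm (hh x List.mem_cons_self).1 (hh x List.mem_cons_self).2).mul_right (ih ?_)
    simp only [inK0, List.all_cons, Bool.and_eq_true] at h
    exact h.2

theorem smul_cz_k {w : List ℕ} (h : inK0 w = true) : val0 w • cz [1] = cz [1] := by
  rw [smul_cz, cz, val0_append, val0_single, ← (k_comm_word h).eq, cz, QuotientGroup.eq, val0_single,
    mul_inv_rev, inv_mul_cancel_right]
  exact inv_mem (val0_mem_H (inK0_wordH h))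


/-- The elements of Fi23 whose product with a power of `l` fixes a coset. -/
noncomputable def stab23 (q : Γ0 ⧸ Hsub) : Subgroup Fi23 where
  carrier := {x | ∃ e : ℕ, (emb x * gen0 0 ^ e) • q = q}
  one_mem' := ⟨0, by simp⟩
  mul_mem' := fun {a b} ⟨i, hi⟩ ⟨j, hj⟩ => ⟨i + j, by
    have e : emb (a * b) * gen0 0 ^ (i + j) = emb a * gen0 0 ^ i * (emb b * gen0 0 ^ j) := by
      rw [map_mul, pow_add]
      calc emb a * emb b * (gen0 0 ^ i * gen0 0 ^ j)
          = emb a * (emb b * gen0 0 ^ i) * gen0 0 ^ j := by group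
        _ = _ := by rw [← ((l_central (emb_mem_H b)).pow_left i).eq]; group
    rw [e, mul_smul, hj, hi]⟩
  inv_mem' := fun {a} ⟨i, hi⟩ => ⟨i, by
    have e : emb a⁻¹ * gen0 0 ^ i = (emb a * gen0 0 ^ i)⁻¹ := by
      rw [mul_inv_rev, ← map_inv, ← ((l_central (emb_mem_H a⁻¹)).pow_left i).eq]
      congr 1
      exact (inv_eq_of_mul_eq_one_right (by
        rw [← pow_add, ← two_mul, pow_mul, pow_two, gen0_sq (by norm_num), one_pow])).symm
    rw [e, inv_smul_eq_iff, hi]⟩

theorem el_mem_stab23 {w : List ℕ} (hw : wordH w = true) {q : Γ0 ⧸ Hsub} (h : val0 w • q = q) :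
    el (tr w) ∈ stab23 q :=
  ⟨w.length, by rw [← val0_eq_emb hw]; exact h⟩

theorem smul_flatMap {q : Γ0 ⧸ Hsub} {sp : List ℕ} {I : List ℕ}
    (hI : ∀ i ∈ I, val0 (expand sp i) • q = q) : val0 (I.flatMap (expand sp)) • q = q := by
  induction I with
  | nil => rw [List.flatMap_nil, val0_nil, one_smul]
  | cons i t ih =>
    rw [List.flatMap_cons, val0_append, mul_smul, ih fun j hj => hI j (List.mem_cons_of_mem _ hj),
      hI i List.mem_cons_self]

theorem smul_reverse {q : Γ0 ⧸ Hsub} {w : List ℕ} (hw : wordH w = true) (h : val0 w • q = q) :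
    val0 w.reverse • q = q := by
  rw [val0_reverse fun x hx => (wordH_spec hw x hx).1, inv_smul_eq_iff, h]

theorem fixTwo {i : ℕ} (hi : i ∈ ([0, 2, 4, 5, 6, 7, 8, 9, 10, 11, 12, 13] : List ℕ)) :
    val0 (expand yWord i) • cz (baseW 2) = cz (baseW 2) := by
  have h := fixTwo_ok
  simp only [fixTwoK, Bool.and_eq_true, List.all_eq_true] at h
  obtain ⟨⟨⟨⟨hl, hy⟩, hyH⟩, -⟩, hgj⟩ := h
  have hy' : val0 yWord • cz (baseW 2) = cz (baseW 2) := by rw [smul_cz]; exact coset_eq_cz hy
  by_cases h12 : i = 12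
  · subst h12; exact hy'
  by_cases h13 : i = 13
  · subst h13; exact smul_reverse hyH hy'
  have hi' : i < 12 := by
    have : ∀ j ∈ ([0, 2, 4, 5, 6, 7, 8, 9, 10, 11, 12, 13] : List ℕ), j = 12 ∨ j = 13 ∨ j < 12 := by decide
    rcases this i hi with e | e | e
    · exact absurd e h12
    · exact absurd e h13
    · exact e
  rw [show expand yWord i = [i] by simp [expand, hi']]
  by_cases h8 : i ∈ ([8, 9] : List ℕ)
  · obtain ⟨⟨hk, ha⟩, hlc⟩ := hgj i h8
    have c1 := commute_of_isRel (by norm_num) hi' hk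
    have c2 := commute_of_isRel (by norm_num) hi' ha
    have c0 := commute_of_isRel (by norm_num) hi' hlc
    have hc : Commute (val0 (baseW 2)) (gen0 i) := by
      show Commute (val0 [1, 2, 0, 1]) (gen0 i)
      simp only [val0_cons, val0_nil, mul_one]
      exact c1.mul_left (c2.mul_left (c0.mul_left c1))
    rw [smul_cz, show cz ([i] ++ baseW 2) = cz (baseW 2 ++ [i]) by
      rw [cz, cz, val0_append, val0_append, val0_single, hc.eq]]
    exact cz_append_mem (by
      rw [val0_single]
      refine gen0_mem_H hi' fun e => ?_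
      rw [e] at h8
      exact absurd h8 (by decide))
  · rw [smul_cz]
    refine coset_eq_cz (hl i ?_)
    have : ∀ j ∈ ([0, 2, 4, 5, 6, 7, 8, 9, 10, 11, 12, 13] : List ℕ), j < 12 → j ∉ ([8, 9] : List ℕ) →
        j ∈ ([0, 2, 4, 5, 6, 7, 10, 11] : List ℕ) := by decide
    exact this i hi hi' h8

theorem l_fixTwo : gen0 0 • cz (baseW 2) = cz (baseW 2) := by
  have := fixTwo (i := 0) (by decide)
  rwa [show expand yWord 0 = [0] from rfl, val0_single] at this

theorem stab_two_conj {a : Fi23} (ha : a ∈ sub lH) :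
    el (tr gA) * a * (el (tr gA))⁻¹ ∈ stab23 (cz (baseW 2)) := by
  suffices h : sub lH ≤ (stab23 (cz (baseW 2))).comap (MulAut.conj (el (tr gA))).toMonoidHom from h ha
  refine (Subgroup.closure_le _).2 ?_
  rintro _ ⟨x, hx, rfl⟩
  show el (tr gA) * CosetCert.Fi23P.coding.gen x * (el (tr gA))⁻¹ ∈ stab23 (cz (baseW 2))
  obtain ⟨n, hn, rfl⟩ := List.mem_iff_getElem.1 hx
  have h := conjA_ok
  simp only [conjAK, Bool.and_eq_true, List.all_eq_true, List.mem_range, decide_eq_true_eq] at h
  obtain ⟨hI, hK⟩ := h.2 n hn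
  have e := conjK_spec hK
  rw [List.getD_eq_getElem _ _ hn, el_single] at e
  rw [e]
  have hwH := fixTwo_ok
  simp only [fixTwoK, Bool.and_eq_true] at hwH
  have hk : el (tr ((kapA.getD n []).flatMap (expand yWord))) ∈ stab23 (cz (baseW 2)) :=
    el_mem_stab23 (expand_wordH hwH.1.1.2 fun i hi =>
      (show ∀ j ∈ ([0, 2, 4, 5, 6, 7, 8, 9, 10, 11, 12, 13] : List ℕ), j < 14 ∧ j ≠ 1 by decide) i (hI i hi))
      (smul_flatMap fun i hi => fixTwo (hI i hi))
  have hc : el [2] ∈ stab23 (cz (baseW 2)) := by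
    rw [show ([2] : List ℕ) = tr [4] by decide]
    exact el_mem_stab23 (by decide) (by
      have := fixTwo (i := 4) (by decide)
      rwa [show expand yWord 4 = [4] from rfl] at this)
  exact mul_mem (mul_mem hk hc) (inv_mem hk)

/-- The test for the stabiliser of the second base coset. -/
theorem fix_two_of_fixA {w : List ℕ} (h : fixA w = true) : val0 w • cz (baseW 2) = cz (baseW 2) := by
  simp only [fixA, Bool.and_eq_true, Nat.beq_eq] at h
  obtain ⟨hw, hp⟩ := h
  have hg : CosetCert.Fi23P.hom (el (tr gA)) pt = gpt 0 := by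
    rw [show tr gA = pathWord by decide]
    refine Fin.ext ?_
    rw [el_img (by decide), gpt_val (by norm_num)]
    exact path_ok
  have hx : CosetCert.Fi23P.hom (el (tr w)) (gpt 0) = gpt 0 := by
    refine Fin.ext ?_
    rw [el_img (tr_lt hw), gpt_val (by norm_num)]
    exact hp
  obtain ⟨e, he⟩ : el (tr w) ∈ stab23 (cz (baseW 2)) := by
    have hm : (el (tr gA))⁻¹ * el (tr w) * el (tr gA) ∈ sub lH := stab_le (by
      rw [map_mul, map_mul, Equiv.Perm.mul_apply, Equiv.Perm.mul_apply, hg, hx, map_inv, Equiv.Perm.inv_def,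
        Equiv.symm_apply_eq, hg])
    have h2 := stab_two_conj hm
    simp only [mul_assoc, mul_inv_cancel, mul_one, mul_inv_cancel_left] at h2
    exact h2
  have hpow : ∀ n : ℕ, gen0 0 ^ n • cz (baseW 2) = cz (baseW 2) := by
    intro n
    induction n with
    | zero => rw [pow_zero, one_smul]
    | succ n ih => rw [pow_succ, mul_smul, l_fixTwo, ih]
  rw [mul_smul, hpow] at he
  rw [val0_eq_emb hw, mul_smul, hpow, he]

/-- The facts about one representative. -/
theorem rep_spec {i : ℕ} (hi : i < 8) : wordH (repH i) = true ∧ wordH (imgWd i) = true ∧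
    repB i < 3 ∧ imgB i < 3 ∧
    gen0 1 • cz (repH i ++ baseW (repB i)) = cz (imgWd i ++ baseW (imgB i)) := by
  have h := rep_ok
  simp only [repK, Bool.and_eq_true, List.all_eq_true, List.mem_range, Nat.blt_eq] at h
  obtain ⟨⟨⟨⟨h1, h2⟩, h3⟩, h4⟩, h5⟩ := h.2 i hi
  refine ⟨h1, h2, h3, h4, ?_⟩
  rw [← val0_single 1, smul_cz]
  exact coset_eq_cz h5

theorem step_spec {h : List ℕ} {b : ℕ} {st : List ℕ × ℕ × List ℕ} (hb : b < 3)
    (hst : stepOK h b st = true) :
    val0 (preW ++ 1 :: postW) • cz (h ++ baseW b) =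
      cz (preW ++ st.1 ++ imgWd st.2.1 ++ baseW (imgB st.2.1)) ∧ imgB st.2.1 < 3 := by
  obtain ⟨kap, i, tau⟩ := st
  simp only [stepOK, Bool.and_eq_true, Nat.blt_eq, Nat.beq_eq] at hst
  obtain ⟨⟨⟨⟨hi, hkap⟩, htau⟩, hbi⟩, hcase⟩ := hst
  obtain ⟨hrH, -, -, hib, hk⟩ := rep_spec hi
  refine ⟨?_, hib⟩
  have key : cz (postW ++ h ++ baseW b) = cz (kap ++ repH i ++ baseW (repB i)) := by
    rw [← hbi]
    have h3 : b = 0 ∨ b = 1 ∨ b = 2 := by omega
    rcases h3 with rfl | rfl | rfl
    · rw [if_pos rfl] at hcase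
      show cz (postW ++ h ++ []) = cz (kap ++ repH i ++ [])
      rw [List.append_nil, List.append_nil, show postW ++ h = [] ++ (postW ++ h) from rfl,
        cz_append_mem (val0_mem_H hcase), show kap ++ repH i = [] ++ (kap ++ repH i) from rfl,
        cz_append_mem]
      rw [val0_append]
      exact mul_mem (val0_mem_H (inK0_wordH hkap)) (val0_mem_H hrH)
    · simp only [one_ne_zero, if_false, if_true] at hcase
      rw [← smul_cz, val0_eq_of_eqH hcase, val0_append, mul_smul]
      show _ • (val0 tau • cz [1]) = _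
      rw [smul_cz_k htau, smul_cz]
      rfl
    · simp only [OfNat.ofNat_ne_zero, if_false, show (2 : ℕ) ≠ 1 by decide, Bool.and_eq_true] at hcase
      have hf := fix_two_of_fixA hcase.1
      rw [val0_append, val0_append, val0_append, val0_reverse (fun x hx => (wordH_spec hrH x hx).1),
        val0_reverse (fun x hx => (inK0_spec hkap x hx).2)] at hf
      rw [← smul_cz, ← smul_cz, val0_append, val0_append]
      conv_rhs => rw [← hf]
      rw [smul_smul]
      congr 1
      group
  rw [show preW ++ 1 :: postW = preW ++ ([1] ++ postW) from rfl, val0_append, val0_append, mul_smul, mul_smul,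
    smul_cz postW, ← List.append_assoc postW, key, List.append_assoc kap, ← smul_cz kap, val0_single,
    ← mul_smul (gen0 1), (k_comm_word hkap).eq, mul_smul, hk, smul_cz, smul_cz]
  simp only [List.append_assoc]

theorem run_spec : ∀ (L : List (List ℕ × ℕ × List ℕ)) (h : List ℕ) (b : ℕ) (h' : List ℕ) (b' : ℕ),
    b < 3 → runW L h b = some (h', b') →
      val0 (preW ++ 1 :: postW) ^ L.length • cz (h ++ baseW b) = cz (h' ++ baseW b') := by
  intro L
  induction L with
  | nil =>
    intro h b h' b' _ e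
    simp only [runW, Option.some.injEq, Prod.mk.injEq] at e
    rw [e.1, e.2, List.length_nil, pow_zero, one_smul]
  | cons st t ih =>
    intro h b h' b' hb e
    rw [runW] at e
    rcases hst : stepOK h b st with _ | _
    · rw [hst] at e; simp at e
    · rw [hst] at e
      obtain ⟨e1, e2⟩ := step_spec hb hst
      rw [List.length_cons, pow_succ, mul_smul, e1]
      exact ih _ _ h' b' e2 e

theorem val0_flatten_replicate (n : ℕ) (W : List ℕ) : val0 (List.replicate n W).flatten = val0 W ^ n := by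
  induction n with
  | zero => rw [List.replicate_zero, List.flatten_nil, val0_nil, pow_zero]
  | succ n ih => rw [List.replicate_succ, List.flatten_cons, val0_append, ih, pow_succ']


/-- The word of order seventeen. -/
def zWord : List ℕ := preW ++ 1 :: postW

/-- The element killed by the relation of order seventeen. -/
noncomputable def zz0 : Γ0 := val0 (List.replicate 17 zWord).flatten

theorem zz0_eq_pow : zz0 = val0 zWord ^ 17 := val0_flatten_replicate _ _

theorem zWord_lt : ∀ x ∈ zWord, x < 12 := by decide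

theorem proj_zz0 : proj zz0 = 1 := by
  rw [zz0, proj_val (by decide)]
  exact Fi24Model.val_eq_one_of_isRel (by decide +kernel)

theorem proj_comp_emb : proj.comp emb = Fi24Model.embFi := PresentedGroup.ext fun a => by
  rw [MonoidHom.comp_apply, ← CosetCert.Fi23P.coding.gen_code a,
    emb_gen (show CosetCert.Fi23P.coding.code a < 10 by cases a <;> decide),
    Fi24Model.embFi_gen (show CosetCert.Fi23P.coding.code a < 10 by cases a <;> decide), map_mul,
    proj_gen (by cases a <;> decide), proj_gen (by norm_num)]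

theorem proj_injOn {x y : Γ0} (hx : x ∈ Hsub) (hy : y ∈ Hsub) (h : proj x = proj y) : x = y := by
  obtain ⟨a, i, rfl⟩ := exists_emb hx
  obtain ⟨b, j, rfl⟩ := exists_emb hy
  rw [map_mul, map_mul, map_pow, map_pow, proj_gen (by norm_num), ← MonoidHom.comp_apply,
    ← MonoidHom.comp_apply, proj_comp_emb, Fi24Model.l_pow i, Fi24Model.l_pow j] at h
  obtain ⟨rfl, e⟩ := Fi24Model.embFi_mul_inj (i := ⟨i % 2, Nat.mod_lt _ (by norm_num)⟩)
    (j := ⟨j % 2, Nat.mod_lt _ (by norm_num)⟩) h
  rw [l_pow i, l_pow j, show i % 2 = j % 2 from congrArg Fin.val e]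

theorem walk_facts : steps.length = 17 ∧ wordH startW = true ∧ wordH sWord = true ∧
    ∃ h, runW steps startW 1 = some (h, 1) ∧ eqH sWord (startW.reverse ++ h) = true := by
  have h := Fi24Model.UB.walk_ok
  unfold Fi24Model.UB.walkK at h
  simp only [Bool.and_eq_true, Nat.beq_eq] at h
  obtain ⟨⟨⟨⟨⟨⟨hlen, hst⟩, -⟩, -⟩, hsH⟩, -⟩, hend⟩ := h
  refine ⟨hlen, hst, hsH, ?_⟩
  rcases hr : runW steps startW 1 with _ | ⟨h', b'⟩
  · rw [hr] at hend; simp at hend
  rw [hr] at hend
  obtain rfl : b' = 1 := by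
    rcases b' with _ | _ | b'
    · simp at hend
    · rfl
    · simp at hend
  exact ⟨h', rfl, hend⟩

/-- In Fi24 the word `s` commutes with `k`. -/
theorem s_comm_k : Commute (Fi24Model.gen 1) (Fi24Model.val sWord) := by
  obtain ⟨hsH, hfix⟩ := Fi24Model.UB.sWord_fix Fi24Model.spider_holds
  generalize hS : Fi24Model.val sWord = S at hfix ⊢
  have hc : Commute (Fi24Model.gen 0) S := hS ▸ Fi24Model.l_central (Fi24Model.val_mem_H hsH)
  have hm : S • ((Fi24Model.val [1] : Fi24) : Fi24 ⧸ Fi24Model.Hsub) =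
      ((Fi24Model.val [1] : Fi24) : Fi24 ⧸ Fi24Model.Hsub) := hfix
  replace hm : ((S * Fi24Model.val [1] : Fi24) : Fi24 ⧸ Fi24Model.Hsub) =
      ((Fi24Model.val [1] : Fi24) : Fi24 ⧸ Fi24Model.Hsub) := hm
  rw [QuotientGroup.eq, Fi24Model.val_single] at hm
  have h2 := Fi24Model.l_central hm
  have hbr : Fi24Model.gen 1 * Fi24Model.gen 0 * Fi24Model.gen 1 =
      Fi24Model.gen 0 * Fi24Model.gen 1 * Fi24Model.gen 0 := by
    have h3 := Fi24Model.val_eq_one_of_isRel (w := [0, 1, 0, 1, 0, 1]) (by decide +kernel)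
    simp only [Fi24Model.val_cons, Fi24Model.val_nil, mul_one, ← mul_assoc] at h3
    have h1 := inv_eq_of_mul_eq_one_right (Fi24Model.gen_sq (show 1 < 12 by norm_num))
    have h0 := inv_eq_of_mul_eq_one_right (Fi24Model.gen_sq (show 0 < 12 by norm_num))
    generalize Fi24Model.gen 0 = u, Fi24Model.gen 1 = v at h3 h0 h1 ⊢
    calc v * u * v = (u * v * u)⁻¹ * (u * v * u * v * u * v) := by group
      _ = u * v * u := by rw [h3, mul_one, mul_inv_rev, mul_inv_rev, h0, h1]; group
  have h11 := Fi24Model.gen_sq (show 1 < 12 by norm_num)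
  have h00 := Fi24Model.gen_sq (show 0 < 12 by norm_num)
  have h4 := h2.map (MulAut.conj (Fi24Model.gen 1)).toMonoidHom
  simp only [MulEquiv.coe_toMonoidHom, MulAut.conj_apply, mul_inv_rev,
    inv_eq_of_mul_eq_one_right h11] at h4
  rw [show Fi24Model.gen 1 * (Fi24Model.gen 1 * S⁻¹ * Fi24Model.gen 1) * Fi24Model.gen 1 =
    Fi24Model.gen 1 * Fi24Model.gen 1 * S⁻¹ * (Fi24Model.gen 1 * Fi24Model.gen 1) by group, h11,
    one_mul, mul_one, hbr] at h4
  have h5 : Commute (Fi24Model.gen 0 * Fi24Model.gen 1 * Fi24Model.gen 0) S := Commute.inv_right_iff.1 h4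
  have h6 := (hc.mul_left (h5.mul_left hc))
  simp only [← mul_assoc, h00, one_mul] at h6
  rwa [mul_assoc, h00, mul_one] at h6

/-- The element of order seventeen is a conjugate of a commutator. -/
theorem zz0_eq : zz0 = val0 startW *
    (val0 sWord * gen0 1 * (val0 sWord)⁻¹ * gen0 1) * (val0 startW)⁻¹ := by
  obtain ⟨hlen, hst, hsH, h', hr, hend⟩ := walk_facts
  have e := run_spec steps startW 1 h' 1 (by norm_num) hr
  rw [hlen, show preW ++ 1 :: postW = zWord from rfl, ← zz0_eq_pow] at e
  have hh : val0 h' = val0 startW * val0 sWord := by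
    rw [val0_eq_of_eqH hend, val0_append, val0_reverse fun x hx => (wordH_spec hst x hx).1,
      mul_inv_cancel_left]
  have e' : ((val0 startW * val0 sWord * gen0 1 : Γ0) : Γ0 ⧸ Hsub) =
      ((zz0 * (val0 startW * gen0 1) : Γ0) : Γ0 ⧸ Hsub) := by
    have : ((zz0 * val0 (startW ++ baseW 1) : Γ0) : Γ0 ⧸ Hsub) =
      ((val0 (h' ++ baseW 1) : Γ0) : Γ0 ⧸ Hsub) := e
    rw [val0_append, val0_append, show val0 (baseW 1) = gen0 1 from val0_single 1, hh] at this
    exact this.symm
  rw [QuotientGroup.eq] at e'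
  have hk := inv_eq_of_mul_eq_one_right (gen0_sq (show 1 < 12 by norm_num))
  have key : (val0 startW * val0 sWord * gen0 1)⁻¹ * (zz0 * (val0 startW * gen0 1)) = (val0 sWord)⁻¹ := by
    refine proj_injOn e' (inv_mem (val0_mem_H hsH)) ?_
    have hkk := inv_eq_of_mul_eq_one_right (Fi24Model.gen_sq (show 1 < 12 by norm_num))
    have hs' := s_comm_k
    simp only [map_mul, map_inv, proj_zz0, one_mul, proj_gen (show 1 < 12 by norm_num),
      proj_val fun x hx => (wordH_spec hst x hx).1, proj_val fun x hx => (wordH_spec hsH x hx).1,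
      mul_inv_rev]
    simp only [mul_assoc, inv_mul_cancel_left]
    rw [← (hs'.inv_right).eq, inv_mul_cancel_left]
  rw [inv_mul_eq_iff_eq_mul] at key
  rw [eq_mul_inv_iff_mul_eq.2 key]
  simp only [mul_inv_rev, hk, mul_assoc]

end CfsgLib.Sporadic.Fi24Mult
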