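import Cfsg.Agent.Lib.Sporadic.Fi24Mult.Mono
import Cfsg.Agent.Lib.Sporadic.Fi24Mult.Walk

/-!
# The tests for the triple cover
-/

set_option autoImplicit false
set_option maxRecDepth 100000

open Cfsg.Spor

namespace CfsgLib.Sporadic.Fi24Mult

open Fi24Model (gpos gcode netsOf wordCode)

/-- The words of the relators that are kept. -/
def relWords : List (List ℕ) :=
  (CosetCert.relList Fi24.edges extra0 coding0.pairs).map fun r =>
    (CosetCert.appWord gpos gpos r).reverse

/-- One relator does not move the sheets. -/
noncomputable def relK (i : ℕ) : Bool := flatK (wordCode (relWords.getD i []))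

/-- The word of order seventeen moves the sheets of the first point, by the same amount at two points joined by a
letter. -/
noncomputable def zK : Bool :=
  runM (wordCode (List.replicate 17 zWord).flatten) false 0 0 fun f a b =>
    !f && (Nat.beq (Nat.land 1 (Nat.lor a b)) 1 &&
      (List.range 12).all fun x => run2 (netsOf (gcode x)) a b fun a' b' => Nat.beq a' a && Nat.beq b' b)

end CfsgLib.Sporadic.Fi24Mult
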