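import Cfsg.Agent.Lib.Sporadic.Fi24Mult.Cover
import Cfsg.Agent.Lib.Sporadic.Fi24Model.Simple
import Cfsg.Prelude.Def_KGroupFacts

/-!
# The triple cover of the derived subgroup of Fi24

The group without the long relation maps to the product of its image on three sheets and Fi24; the
derived subgroup of that finite image is a stem extension with kernel of order three.
-/

set_option autoImplicit false
set_option maxRecDepth 100000

open Cfsg.Spor
open scoped commutatorElement

namespace CfsgLib.Sporadic.Fi24Mult

open Fi24Model (gpos)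

theorem closure0 : Subgroup.closure (gen0 '' {n | n < 12}) = (⊤ : Subgroup Γ0) := coding0.closure_gen_eq_top

theorem proj_surjective : Function.Surjective proj := by
  rw [← MonoidHom.range_eq_top, eq_top_iff, ← Fi24Model.closure_letters, Subgroup.closure_le]
  rintro _ ⟨n, hn, rfl⟩
  exact ⟨gen0 n, proj_gen hn⟩

theorem ker_proj_le : proj.ker ≤ Subgroup.normalClosure {zz0} := by
  set N := Subgroup.normalClosure ({zz0} : Set Γ0)
  have hrel : ∀ r ∈ coxRelators Fi24.edges ∪ {r | r ∈ Fi24.extra},
      FreeGroup.lift (fun x => QuotientGroup.mk' N (gen0 (gpos x))) r = 1 := by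
    refine CosetCert.lift_cox_eq_one _ Fi24Model.coding.pairs_cover fun r hr => ?_
    have e : FreeGroup.lift (fun x => QuotientGroup.mk' N (gen0 (gpos x))) r =
        QuotientGroup.mk' N (val0 (CosetCert.appWord gpos gpos r).reverse) := by
      rw [val0_eq_appProd, List.reverse_reverse,
        show CosetCert.appWord gpos gpos r = CosetCert.appWord coding0.code coding0.cinv r from rfl,
        ← coding0.mk_eq]
      clear hr
      induction r using FreeGroup.induction_on with
      | C1 => simp
      | of x => rw [FreeGroup.lift_apply_of, gen0_gpos]; rfl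
      | inv_of x _ => rw [map_inv, FreeGroup.lift_apply_of, gen0_gpos, ← map_inv]; rfl
      | mul x y hx hy => rw [map_mul, map_mul, map_mul, hx, hy]
    rw [e]
    have key : ∀ r ∈ CosetCert.relList Fi24.edges Fi24.extra Fi24Model.coding.pairs,
        isRel0 (CosetCert.appWord gpos gpos r).reverse = true ∨
          (CosetCert.appWord gpos gpos r).reverse = (List.replicate 17 zWord).flatten := by decide +kernel
    rcases key r hr with h | h
    · rw [val0_one_of_isRel h, map_one]
    · rw [h]
      exact (QuotientGroup.eq_one_iff _).2 (Subgroup.subset_normalClosure rfl)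
  have hcomp : (PresentedGroup.toGroup hrel).comp proj = QuotientGroup.mk' N := PresentedGroup.ext fun x => by
    rw [MonoidHom.comp_apply, ← gen0_gpos, proj_gen (by cases x <;> decide), Fi24Model.gen_gpos]
    exact PresentedGroup.toGroup.of hrel
  intro g hg
  have h := DFunLike.congr_fun hcomp g
  rw [MonoidHom.comp_apply, MonoidHom.mem_ker.1 hg, map_one] at h
  exact (QuotientGroup.eq_one_iff g).1 h.symm

/-- The sign of the group without the long relation. -/
noncomputable def sign0 : Γ0 →* ℤˣ := Fi24Model.signHom.comp proj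

theorem sign0_gen {n : ℕ} (hn : n < 12) : sign0 (gen0 n) = -1 := by
  rw [sign0, MonoidHom.comp_apply, proj_gen hn, Fi24Model.signHom_gen hn]

theorem conj_zeta (g : Γ0) : cover g * cover zz0 * (cover g)⁻¹ = cover zz0 ^ ((sign0 g : ℤˣ) : ℤ) := by
  have hg : g ∈ Subgroup.closure (gen0 '' {n | n < 12}) := closure0.symm ▸ Subgroup.mem_top g
  induction hg using Subgroup.closure_induction with
  | mem x hx =>
    obtain ⟨n, hn, rfl⟩ := hx
    have hi : (cover (gen0 n))⁻¹ = cover (gen0 n) :=
      inv_eq_of_mul_eq_one_right (by rw [← map_mul, gen0_sq hn, map_one])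
    rw [hi, cover_conj hn, sign0_gen hn, Units.val_neg, Units.val_one, zpow_neg_one]
  | one => simp
  | mul a b _ _ ha hb =>
    rw [map_mul cover, map_mul sign0, Units.val_mul, zpow_mul, ← ha, conj_zpow, ← hb]
    group
  | inv a _ ha =>
    rw [map_inv cover, map_inv sign0, inv_inv, Int.units_inv_eq_self]
    rcases Int.units_eq_one_or (sign0 a) with h | h <;> rw [h] at ha ⊢
    · simp only [Units.val_one, zpow_one] at ha ⊢
      conv_lhs => rw [← ha]
      group
    · simp only [Units.val_neg, Units.val_one, zpow_neg_one] at ha ⊢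
      have := congrArg (fun z => z⁻¹) ha
      simp only [inv_inv] at this
      conv_lhs => rw [← this]
      group

theorem even_comm {g : Γ0} (hg : g ∈ commutator Γ0) : Commute (cover g) (cover zz0) := by
  have h := conj_zeta g
  rw [show sign0 g = 1 from MonoidHom.mem_ker.1 (Abelianization.commutator_subset_ker sign0 hg),
    Units.val_one, zpow_one] at h
  exact mul_inv_eq_iff_eq_mul.1 h

theorem braid_conj0 {p q : ℕ} (h : (p, q) ∈ Fi24Model.joined) :
    gen0 q = gen0 p * gen0 q * gen0 p * (gen0 p * gen0 q)⁻¹ := by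
  have hlt : ∀ e ∈ Fi24Model.joined, e.1 < 12 ∧ e.2 < 12 ∧ isRel0 [e.1, e.2, e.1, e.2, e.1, e.2] = true := by
    decide +kernel
  obtain ⟨hp, hq, hr⟩ := hlt _ h
  have h3 := val0_one_of_isRel hr
  simp only [val0_cons, val0_nil, mul_one] at h3
  have hpp := gen0_sq hp
  have hqq := gen0_sq hq
  generalize gen0 p = u at h3 hpp ⊢
  generalize gen0 q = v at h3 hqq ⊢
  rw [mul_inv_rev, inv_eq_of_mul_eq_one_right hpp, inv_eq_of_mul_eq_one_right hqq]
  calc v = u * (v * (u * (v * (u * v)))) * v := by rw [h3, one_mul]
    _ = u * v * u * (v * u) * (v * v) := by simp only [mul_assoc]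
    _ = u * v * u * (v * u) := by rw [hqq, mul_one]

theorem abel_gen0 {n : ℕ} (hn : n < 12) : Abelianization.of (gen0 n) = Abelianization.of (gen0 0) := by
  have step : ∀ {p q : ℕ}, (p, q) ∈ Fi24Model.joined →
      Abelianization.of (gen0 p) = Abelianization.of (gen0 0) →
      Abelianization.of (gen0 q) = Abelianization.of (gen0 0) := by
    intro p q h hp
    rw [braid_conj0 h, map_mul, map_mul, map_mul, map_inv, map_mul, hp,
      mul_comm (Abelianization.of (gen0 0) * Abelianization.of (gen0 q)) (Abelianization.of (gen0 0)),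
      mul_inv_cancel_right]
  have h1 := step (p := 0) (q := 1) (by decide) rfl
  have h2 := step (p := 1) (q := 2) (by decide) h1
  have h3 := step (p := 2) (q := 3) (by decide) h2
  have h4 := step (p := 3) (q := 4) (by decide) h3
  have h5 := step (p := 4) (q := 5) (by decide) h4
  have h6 := step (p := 5) (q := 6) (by decide) h5
  have h7 := step (p := 6) (q := 7) (by decide) h6
  have h8 := step (p := 7) (q := 8) (by decide) h7
  have h9 := step (p := 8) (q := 9) (by decide) h8
  have h10 := step (p := 5) (q := 10) (by decide) h5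
  have h11 := step (p := 10) (q := 11) (by decide) h10
  interval_cases n <;> first | rfl | assumption

theorem even_word {w : List ℕ} (hw : ∀ x ∈ w, x < 12) (he : w.length % 2 = 0) : val0 w ∈ commutator Γ0 := by
  have h : Abelianization.of (val0 w) = Abelianization.of (gen0 0) ^ w.length := by
    clear he
    induction w with
    | nil => exact map_one _
    | cons x t ih =>
      rw [val0_cons, map_mul, ih fun y hy => hw y (List.mem_cons_of_mem _ hy),
        abel_gen0 (hw x List.mem_cons_self), List.length_cons, pow_succ']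
  rw [← Abelianization.ker_of, MonoidHom.mem_ker, h, ← Nat.div_add_mod w.length 2, he, add_zero, pow_mul,
    pow_two, ← map_mul, gen0_sq (by norm_num), map_one, one_pow]

theorem zz0_mem : zz0 ∈ ⁅commutator Γ0, commutator Γ0⁆ := by
  obtain ⟨-, -, hsH, -⟩ := walk_facts
  have hS : val0 Fi24Model.UB.sWord ∈ commutator Γ0 :=
    even_word (fun x hx => (Fi24Model.wordH_spec hsH x hx).1) (by decide)
  have hkl : val0 [1, 0] ∈ commutator Γ0 := even_word (by decide) rfl
  have h := (inferInstance : (⁅commutator Γ0, commutator Γ0⁆).Normal).conj_mem _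
    (Subgroup.commutator_mem_commutator hS hkl) (val0 Fi24Model.UB.startW)
  have hl : Commute (gen0 0) (val0 Fi24Model.UB.sWord) := l_central (val0_mem_H hsH)
  have h0 := gen0_sq (show 0 < 12 by norm_num)
  have e : ⁅val0 Fi24Model.UB.sWord, val0 [1, 0]⁆ =
      val0 Fi24Model.UB.sWord * gen0 1 * (val0 Fi24Model.UB.sWord)⁻¹ * gen0 1 := by
    rw [commutatorElement_def, val0_cons, val0_single, mul_inv_rev, inv_eq_of_mul_eq_one_right h0,
      inv_eq_of_mul_eq_one_right (gen0_sq (show 1 < 12 by norm_num))]
    generalize val0 Fi24Model.UB.sWord = S at hl ⊢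
    calc S * (gen0 1 * gen0 0) * S⁻¹ * (gen0 0 * gen0 1)
        = S * gen0 1 * ((gen0 0 * S⁻¹) * gen0 0) * gen0 1 := by simp only [mul_assoc]
      _ = _ := by rw [hl.inv_right.eq, mul_assoc S⁻¹, h0, mul_one]
  rw [e] at h
  rw [zz0_eq]
  exact h

theorem map_mem_commutator {A B : Type*} [Group A] [Group B] (f : A →* B) {a : A} (ha : a ∈ commutator A) :
    f a ∈ commutator B := by
  have h : f a ∈ (commutator A).map f := ⟨a, ha, rfl⟩
  rw [commutator_def, Subgroup.map_commutator] at h
  exact Subgroup.commutator_mono le_top le_top h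

/-- Permutations of the sheets, and Fi24. -/
abbrev Amb : Type := Equiv.Perm (Fin Fi24Model.size × ZMod 3) × Fi24

/-- The finite image. -/
noncomputable abbrev Cover : Subgroup Amb :=
  (cover.prod proj).range

/-- The map onto the finite image. -/
noncomputable def toCover : Γ0 →* Cover := (cover.prod proj).rangeRestrict

theorem toCover_val (g : Γ0) : (toCover g : Amb) = (cover g, proj g) := rfl

theorem cover_finite : Finite Cover := by
  have := Fi24Model.finite
  infer_instance

theorem toCover_surjective : Function.Surjective toCover := MonoidHom.rangeRestrict_surjective _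

theorem mem_commutator_cover {x : Cover} (hx : x ∈ commutator Cover) :
    ∃ g ∈ commutator Γ0, toCover g = x := by
  have e : (commutator Γ0).map toCover = commutator Cover := by
    rw [commutator_def, Subgroup.map_commutator, Subgroup.map_top_of_surjective _ toCover_surjective,
      ← commutator_def]
  rw [← e] at hx
  exact hx

theorem map_commutator_cover {g : Γ0} (hg : g ∈ commutator Γ0) : toCover g ∈ commutator Cover :=
  map_mem_commutator toCover hg

theorem zz0_even : zz0 ∈ commutator Γ0 :=
  Subgroup.commutator_mono le_top le_top zz0_mem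

/-- The covering group. -/
noncomputable abbrev Gam : Type := ↥(commutator Cover)

/-- The covering map. -/
noncomputable def sigma : Gam →* ↥(commutator Fi24) :=
  ((MonoidHom.snd _ Fi24).comp ((Subgroup.subtype Cover).comp (commutator Cover).subtype)).codRestrict _
    fun x => by
      obtain ⟨g, hg, e⟩ := mem_commutator_cover x.2
      show ((x : Cover) : Amb).2 ∈ commutator Fi24
      rw [← e]
      exact map_mem_commutator proj hg

theorem sigma_val (x : Gam) : (sigma x : Fi24) = ((x : Cover) : Amb).2 := rfl

/-- The generator of the kernel. -/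
noncomputable def zeta : Gam := ⟨toCover zz0, map_commutator_cover zz0_even⟩

theorem zeta_mem : zeta ∈ sigma.ker := Subtype.ext proj_zz0

theorem zeta_val : ((zeta : Cover) : Amb) = (cover zz0, 1) := by
  show (cover zz0, proj zz0) = _
  rw [proj_zz0]

theorem span_normal0 : ((Subgroup.zpowers (cover zz0)).comap cover).Normal := by
  refine ⟨fun n hn g => ?_⟩
  obtain ⟨m, hm⟩ := Subgroup.mem_zpowers_iff.1 (Subgroup.mem_comap.1 hn)
  refine Subgroup.mem_comap.2 ?_
  rw [map_mul, map_mul, map_inv, ← hm, ← conj_zpow, conj_zeta, ← zpow_mul]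
  exact Subgroup.zpow_mem_zpowers _ _

theorem ker_sigma : sigma.ker = Subgroup.zpowers zeta := by
  refine le_antisymm (fun x hx => ?_) (Subgroup.zpowers_le.2 zeta_mem)
  obtain ⟨g, -, e⟩ := mem_commutator_cover x.2
  have hg : proj g = 1 := by
    have h : ((x : Cover) : Amb).2 = 1 := congrArg Subtype.val (MonoidHom.mem_ker.1 hx)
    rwa [← e] at h
  have := span_normal0
  have hN : Subgroup.normalClosure {zz0} ≤ (Subgroup.zpowers (cover zz0)).comap cover :=
    Subgroup.normalClosure_le_normal (Set.singleton_subset_iff.2 (Subgroup.mem_zpowers _))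
  obtain ⟨m, hm⟩ := Subgroup.mem_zpowers_iff.1 (Subgroup.mem_comap.1 (hN (ker_proj_le hg)))
  refine Subgroup.mem_zpowers_iff.2 ⟨m, ?_⟩
  apply Subtype.ext
  apply Subtype.ext
  rw [SubgroupClass.coe_zpow, SubgroupClass.coe_zpow, zeta_val, Prod.pow_mk, one_zpow, hm, ← e, toCover_val, hg]

theorem zeta_order : orderOf zeta = 3 := by
  have := Fact.mk Nat.prime_three
  refine orderOf_eq_prime (Subtype.ext (Subtype.ext ?_)) fun h => cover_zz0_ne ?_
  · rw [SubmonoidClass.coe_pow, SubmonoidClass.coe_pow, zeta_val, Prod.pow_mk, one_pow, cover_zz0_cube]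
    rfl
  · exact congrArg (fun z : Gam => ((z : Cover) : Amb).1) h

theorem sigma_stem : Cfsg.IsStemExtension sigma := by
  refine ⟨fun y => ?_, ?_, ?_⟩
  · have e : (commutator Γ0).map proj = commutator Fi24 := by
      rw [commutator_def, Subgroup.map_commutator, Subgroup.map_top_of_surjective _ proj_surjective,
        ← commutator_def]
    have hy0 := y.2
    replace hy0 : (y : Fi24) ∈ (commutator Γ0).map proj := by rw [e]; exact hy0
    obtain ⟨g, hg, hy⟩ := hy0
    exact ⟨⟨toCover g, map_commutator_cover hg⟩, Subtype.ext hy⟩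
  · rw [ker_sigma, Subgroup.zpowers_le]
    refine Subgroup.mem_center_iff.2 fun x => ?_
    obtain ⟨g, hg, e⟩ := mem_commutator_cover x.2
    apply Subtype.ext
    apply Subtype.ext
    simp only [Subgroup.coe_mul, zeta_val, ← e, toCover_val, Prod.mk_mul_mk, (even_comm hg).eq, mul_one,
      one_mul]
  · rw [ker_sigma, Subgroup.zpowers_le]
    have h : toCover zz0 ∈ (⁅commutator Γ0, commutator Γ0⁆).map toCover := ⟨zz0, zz0_mem, rfl⟩
    rw [Subgroup.map_commutator] at h
    have h2 : toCover zz0 ∈ ⁅commutator Cover, commutator Cover⁆ := by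
      refine Subgroup.commutator_mono ?_ ?_ h <;>
      · rintro _ ⟨g, hg, rfl⟩
        exact map_commutator_cover hg
    rw [← Subgroup.map_subtype_commutator] at h2
    obtain ⟨c, hc, hcz⟩ := h2
    rwa [show zeta = c from Subtype.ext hcz.symm]

theorem exists_triple_cover : ∃ (Γ : Type) (_ : Group Γ) (_ : Finite Γ) (σ : Γ →* ↥(commutator Fi24)),
    Cfsg.IsStemExtension σ ∧ Nonempty (σ.ker ≃* Multiplicative (ZMod 3)) := by
  have := cover_finite
  refine ⟨Gam, inferInstance, inferInstance, sigma, sigma_stem, ⟨?_⟩⟩
  refine (MulEquiv.subgroupCongr ker_sigma).trans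
    (zmodMulEquivOfGenerator (g := (⟨zeta, Subgroup.mem_zpowers _⟩ : Subgroup.zpowers zeta)) ?_ ?_).symm
  · rintro ⟨x, hx⟩
    obtain ⟨n, rfl⟩ := Subgroup.mem_zpowers_iff.1 hx
    exact Subgroup.mem_zpowers_iff.2 ⟨n, Subtype.ext (by simp)⟩
  · rw [Nat.card_zpowers, zeta_order]

end CfsgLib.Sporadic.Fi24Mult
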