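import Cfsg.Agent.Lib.Sporadic.Fi24Model.Main

/-!
# The presentation of Fi24 without its relation of order seventeen

The spider relation is imposed in place of it. The certificate for identities of cosets uses
neither relation, so it applies to this group as well.
-/

set_option autoImplicit false
set_option maxRecDepth 100000

open Cfsg.Spor

namespace CfsgLib.Sporadic.Fi24Mult

open CosetCert (Coding appProd relList node_inv appWord mk_relList)
open Fi24Model (gens24 gpos sig1080 pos1080 rels1080 subs1080 sig_ok sameCoset spiderWord exists_gpos)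

/-- The relators that are kept: the relation of seven letters and the spider. -/
def extra0 : List (FreeGroup Fi24.Gen) :=
  [Fi24.l * (((Fi24.a * Fi24.b * Fi24.c * Fi24.d * Fi24.e * Fi24.f * Fi24.h) ^ 9)⁻¹),
    Fi24Model.SpiderRel.spider]

/-- The presented group. -/
abbrev Γ0 : Type := CoxPresented Fi24.Gen Fi24.edges extra0

/-- The coding of letters. -/
def coding0 : Coding Fi24.edges extra0 12 0xba9876543210 where
  lets := gens24.map fun x => (x, true)
  code := gpos
  cinv := gpos
  pairs := Fi24Model.coding.pairs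
  len := rfl
  code_eq a := by cases a <;> rfl
  cinv_eq a := Or.inr ⟨rfl, Fi24Model.mem_nodes a⟩
  inv_eq x hx := by
    refine ⟨gens24.getD x .l, Or.inl ?_⟩
    revert x
    decide
  pairs_mem := Fi24Model.coding.pairs_mem
  pairs_cover := Fi24Model.coding.pairs_cover

/-- A letter. -/
noncomputable def gen0 (n : ℕ) : Γ0 := coding0.gen n

theorem gen0_gpos (x : Fi24.Gen) : gen0 (gpos x) = PresentedGroup.of x := coding0.gen_code x

theorem gen0_sq {n : ℕ} (hn : n < 12) : gen0 n * gen0 n = 1 := by
  obtain ⟨x, rfl⟩ := exists_gpos hn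
  rw [gen0_gpos]
  exact inv_eq_iff_mul_eq_one.1 (node_inv (Fi24Model.mem_nodes x))

/-- The value of a word, as a product from left to right. -/
noncomputable def val0 (w : List ℕ) : Γ0 := (w.map gen0).prod

theorem val0_nil : val0 [] = 1 := rfl

theorem val0_cons (x : ℕ) (w : List ℕ) : val0 (x :: w) = gen0 x * val0 w := List.prod_cons

theorem val0_append (a b : List ℕ) : val0 (a ++ b) = val0 a * val0 b := by simp [val0]

theorem val0_single (x : ℕ) : val0 [x] = gen0 x := mul_one _

theorem val0_reverse {w : List ℕ} (hw : ∀ x ∈ w, x < 12) : val0 w.reverse = (val0 w)⁻¹ := by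
  induction w with
  | nil => simp [val0_nil]
  | cons x t ih =>
    rw [List.reverse_cons, val0_append, ih fun y hy => hw y (List.mem_cons_of_mem _ hy), val0_single,
      val0_cons, mul_inv_rev, inv_eq_of_mul_eq_one_right (gen0_sq (hw x List.mem_cons_self))]

theorem val0_eq_appProd (w : List ℕ) : val0 w = appProd coding0.gen w.reverse := by
  induction w with
  | nil => rfl
  | cons x t ih =>
    rw [List.reverse_cons, CosetCert.appProd_append, val0_cons, ih]
    simp [appProd, gen0]

/-- The test for a word to be a relator. -/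
def isRel0 (w : List ℕ) : Bool :=
  (relList Fi24.edges extra0 coding0.pairs).any fun r => (appWord gpos gpos r).reverse == w

theorem val0_one_of_isRel {w : List ℕ} (h : isRel0 w = true) : val0 w = 1 := by
  obtain ⟨r, hr, he⟩ := List.any_eq_true.1 h
  rw [← eq_of_beq he, val0_eq_appProd, List.reverse_reverse,
    show appWord gpos gpos r = appWord coding0.code coding0.cinv r from rfl, ← coding0.mk_eq,
    mk_relList coding0.pairs_mem hr]

theorem spider0 : val0 spiderWord = 1 := val0_one_of_isRel (by decide +kernel)

/-- The words of the two relators that are kept. -/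
theorem extra0_words : extra0.map (fun r => (appWord gpos gpos r).reverse) =
    [[0] ++ Fi24Model.sevenWord.reverse, spiderWord] := by decide +kernel

/-- The relators hold for the letters of any family of involutions satisfying them as words. -/
theorem lift_rel0 {Q : Type*} [Group Q] (g : ℕ → Q) (hsq : ∀ n < 12, g n * g n = 1)
    (hrel : ∀ r ∈ relList Fi24.edges extra0 coding0.pairs,
      ((appWord gpos gpos r).reverse.map g).prod = 1) :
    ∀ r ∈ coxRelators Fi24.edges ∪ {r | r ∈ extra0}, FreeGroup.lift (fun x => g (gpos x)) r = 1 := by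
  refine CosetCert.lift_cox_eq_one _ coding0.pairs_cover fun r hr => ?_
  rw [CosetCert.lift_eq_appProd (fun x => g (gpos x)) g gpos gpos (fun _ => rfl)
    (fun x => (inv_eq_of_mul_eq_one_right (hsq _ (show gpos x < 12 by cases x <;> decide))).symm) r]
  refine Eq.trans ?_ (hrel r hr)
  induction appWord gpos gpos r with
  | nil => rfl
  | cons x t ih => rw [List.reverse_cons, List.map_append, List.prod_append, ← ih]; simp [appProd]

theorem proj_rel : ∀ r ∈ coxRelators Fi24.edges ∪ {r | r ∈ extra0},
    FreeGroup.lift (fun x => Fi24Model.gen (gpos x)) r = 1 := by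
  refine lift_rel0 Fi24Model.gen (fun n hn => Fi24Model.gen_sq hn) fun r hr => ?_
  show Fi24Model.val (appWord gpos gpos r).reverse = 1
  rcases List.mem_append.1 hr with h | h
  · exact Fi24Model.val_eq_one_of_rel (List.mem_append_left _ h)
  · have h2 := List.mem_map_of_mem (f := fun r => (appWord gpos gpos r).reverse) h
    rw [extra0_words, List.mem_cons, List.mem_singleton] at h2
    rcases h2 with e | e <;> rw [e]
    · exact Fi24Model.val_eq_one_of_isRel (by decide +kernel)
    · exact Fi24Model.spider_holds

/-- The map to Fi24. -/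
noncomputable def proj : Γ0 →* Fi24 := PresentedGroup.toGroup proj_rel

theorem proj_gen {n : ℕ} (hn : n < 12) : proj (gen0 n) = Fi24Model.gen n := by
  obtain ⟨x, rfl⟩ := exists_gpos hn
  rw [gen0_gpos]
  exact PresentedGroup.toGroup.of proj_rel

theorem proj_val {w : List ℕ} (hw : ∀ x ∈ w, x < 12) : proj (val0 w) = Fi24Model.val w := by
  induction w with
  | nil => exact map_one _
  | cons x t ih =>
    rw [val0_cons, map_mul, proj_gen (hw x List.mem_cons_self),
      ih fun y hy => hw y (List.mem_cons_of_mem _ hy)]
    rfl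

section Small

variable (S : Subgroup Γ0)

/-- The reading of the small certificate in the cosets of a subgroup. -/
noncomputable def interp0 : CosetCert.Fi24Data.cert1080.Interp Γ0 (Γ0 ⧸ S) :=
  coding0.interp CosetCert.Fi24Data.cert1080 sig1080 sig_ok rfl S

theorem rels_mem : rels1080.all (fun r => decide (r ∈ relList Fi24.edges extra0 coding0.pairs)) = true := by
  decide +kernel

theorem words_ok0 : coding0.WordsOK CosetCert.Fi24Data.cert1080 sig1080 rels1080 subs1080 :=
  coding0.wordsOK_of_map_eq (by decide +kernel) (by decide +kernel)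

variable {S}

theorem respects0 (hS : ∀ x : Fi24.Gen, gpos x ∈ [0, 2, 3, 4, 5, 6, 7, 10, 11] →
    (PresentedGroup.of x : Γ0) ∈ S) : (interp0 S).Respects := by
  intro i hi
  have e : (interp0 S).prod (CosetCert.Fi24Data.cert1080.word i).1
      (CosetCert.Fi24Data.cert1080.word i).2 0 (CosetCert.Fi24Data.cert1080.word i).1 =
      appProd coding0.gen ((CosetCert.Fi24Data.cert1080.letters i).map (sig1080.getD · 12)) := by
    rw [CosetCert.Cert.Interp.prod_eq_appProd, CosetCert.appProd_map coding0.gen fun x => sig1080.getD x 12]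
    rfl
  have h1 : i < CosetCert.Fi24Data.cert1080.nr → (interp0 S).prod
      (CosetCert.Fi24Data.cert1080.word i).1 (CosetCert.Fi24Data.cert1080.word i).2 0
      (CosetCert.Fi24Data.cert1080.word i).1 = 1 := by
    intro hlt
    obtain ⟨r, hr, he⟩ := (words_ok0 i hi).1 hlt
    rw [e, ← he, ← coding0.mk_eq,
      mk_relList coding0.pairs_mem (of_decide_eq_true (List.all_eq_true.1 rels_mem r hr))]
  refine ⟨h1, ?_⟩
  by_cases hlt : i < CosetCert.Fi24Data.cert1080.nr
  · rw [h1 hlt, one_smul]
  · obtain ⟨r, hr, he⟩ := (words_ok0 i hi).2 hlt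
    rw [e, ← he, ← coding0.mk_eq]
    obtain ⟨x, hx, rfl⟩ := List.mem_map.1 hr
    show ((PresentedGroup.of x * 1 : Γ0) : Γ0 ⧸ S) = ((1 : Γ0) : Γ0 ⧸ S)
    rw [mul_one, QuotientGroup.eq, mul_one]
    refine inv_mem (hS x ?_)
    clear he hr
    revert hx
    revert x
    decide +kernel

theorem gen0_pos {n : ℕ} (h : n ∈ sig1080) : (interp0 S).g (pos1080 n) = gen0 n := by
  show coding0.gen (sig1080.getD (pos1080 n) 12) = coding0.gen n
  congr 1
  revert n
  decide

theorem walk_spec (hR : (interp0 S).Respects) :
    ∀ (L : List ℕ) (u s : ℕ), (∀ x ∈ L, x ∈ sig1080) →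
      CosetCert.Fi24Data.cert1080.walk 12043 u (L.map pos1080) = s + 1 →
      val0 L.reverse • (interp0 S).node u = (interp0 S).node s := by
  intro L
  induction L with
  | nil =>
    intro u s _ h
    have h' : u = s := Nat.succ_injective h
    rw [h']
    exact one_smul _ _
  | cons x t ih =>
    intro u s hL h
    change Nat.rec (motive := fun _ => ℕ) 0
      (fun v _ => CosetCert.Fi24Data.cert1080.walk 12043 v (t.map pos1080))
      (CosetCert.Fi24Data.cert1080.look 12043 u (pos1080 x)) = s + 1 at h
    rcases h2 : CosetCert.Fi24Data.cert1080.look 12043 u (pos1080 x) with _ | v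
    · rw [h2] at h
      exact absurd h (by simp)
    · rw [h2] at h
      have hx := hL x List.mem_cons_self
      have hp : pos1080 x ≤ CosetCert.Fi24Data.cert1080.nl := by
        show pos1080 x ≤ 10
        clear h h2 hL
        revert hx
        revert x
        decide
      have h3 := CosetCert.Cert.table_spec CosetCert.Fi24Data.cert1080_valid hR hp h2
      rw [gen0_pos hx] at h3
      rw [List.reverse_cons, val0_append, mul_smul, val0_single, h3]
      exact ih v s (fun y hy => hL y (List.mem_cons_of_mem _ hy)) h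

theorem coset_eq0 (hS : ∀ x : Fi24.Gen, gpos x ∈ [0, 2, 3, 4, 5, 6, 7, 10, 11] →
    (PresentedGroup.of x : Γ0) ∈ S) {a b : List ℕ} (h : Fi24Model.sameCoset a b = true) :
    ((val0 a : Γ0) : Γ0 ⧸ S) = (val0 b : Γ0) := by
  simp only [Fi24Model.sameCoset, Bool.and_eq_true, List.all_eq_true, List.mem_append, decide_eq_true_eq,
    Nat.blt_eq, Nat.beq_eq] at h
  obtain ⟨⟨hl, hpos⟩, heq⟩ := h
  obtain ⟨s, hs⟩ : ∃ s, Fi24Model.walk a = s + 1 := ⟨_, (Nat.succ_pred_eq_of_pos hpos).symm⟩
  have key : ∀ c : List ℕ, (∀ x ∈ c, x ∈ sig1080) → Fi24Model.walk c = s + 1 →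
      ((val0 c : Γ0) : Γ0 ⧸ S) = (interp0 S).node s := by
    intro c hc hw
    have := walk_spec (S := S) (respects0 hS) c.reverse 0 s
      (fun x hx => hc x (List.mem_reverse.1 hx)) hw
    rw [List.reverse_reverse, CosetCert.Cert.Interp.node_zero] at this
    rw [← this]
    show ((val0 c : Γ0) : Γ0 ⧸ S) = ((val0 c * 1 : Γ0) : Γ0 ⧸ S)
    rw [mul_one]
  rw [key a (fun x hx => hl x (Or.inl hx)) hs, key b (fun x hx => hl x (Or.inr hx)) (heq ▸ hs)]

end Small

end CfsgLib.Sporadic.Fi24Mult
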