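import Cfsg.Agent.Lib.Sporadic.Fi24Mult.Walk
import Cfsg.Agent.Lib.Sporadic.Fi24Model.Simple
import Cfsg.Agent.Lib.Sporadic.Fi23Mult.Main
import Cfsg.Agent.Lib.Sporadic.Fi23Out.Inj

/-!
# Lifts of the conjugates of Fi23 to a central extension of the derived subgroup of Fi24

Each lift is unique; two of them agree where the centralisers of two commuting transpositions
meet, because that intersection is perfect.
-/

set_option autoImplicit false
set_option maxRecDepth 100000

open Cfsg.Spor
open scoped commutatorElement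

namespace CfsgLib.Sporadic.Fi24Mult

open CosetCert.Fi23P (lH lH_lt pt hom_fix transitive)
open CosetCert.Fi23P.Two (el el_img el_append el_single gpt gpt_val stab_le pathWord path_ok dp conj_dp gen_eq_dp)

/-- Two homomorphisms of a perfect group that agree modulo a central subgroup are equal. -/
theorem hom_unique {A E G : Type*} [Group A] [Group E] [Group G] (π : E →* G)
    (hker : π.ker ≤ Subgroup.center E) (hA : commutator A = ⊤) (f g : A →* E)
    (h : ∀ a, π (f a) = π (g a)) : f = g := by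
  have hz : ∀ a x, (f a * (g a)⁻¹) * x = x * (f a * (g a)⁻¹) := fun a x =>
    (Subgroup.mem_center_iff.1 (hker (show f a * (g a)⁻¹ ∈ π.ker by
      rw [MonoidHom.mem_ker, map_mul, map_inv, h, mul_inv_cancel])) x).symm
  have hfg : ∀ a, f a = (f a * (g a)⁻¹) * g a := fun a => (inv_mul_cancel_right _ _).symm
  have hle : commutator A ≤ f.eqLocus g := by
    rw [commutator_def, Subgroup.commutator_le]
    intro a _ b _
    show f ⁅a, b⁆ = g ⁅a, b⁆
    rw [map_commutatorElement, map_commutatorElement, hfg a, hfg b, commutatorElement_def, commutatorElement_def]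
    have za := hz a
    have zb := hz b
    generalize f a * (g a)⁻¹ = z at za ⊢
    generalize f b * (g b)⁻¹ = w at zb ⊢
    generalize g a = u, g b = v
    calc z * u * (w * v) * (z * u)⁻¹ * (w * v)⁻¹
        = z * (u * w) * v * u⁻¹ * z⁻¹ * v⁻¹ * w⁻¹ := by group
      _ = z * (w * (u * v * u⁻¹)) * z⁻¹ * v⁻¹ * w⁻¹ := by rw [← zb u]; group
      _ = w * (u * v * u⁻¹ * v⁻¹) * w⁻¹ := by rw [za]; group
      _ = u * v * u⁻¹ * v⁻¹ := by rw [zb]; group
  ext a
  exact hle (show a ∈ commutator A by rw [hA]; exact Subgroup.mem_top a)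

theorem perfect_Fi23 : commutator Fi23 = ⊤ := by
  have := CosetCert.Fi23P.isSimple
  refine (IsSimpleGroup.eq_bot_or_eq_top_of_normal (commutator Fi23) inferInstance).resolve_left fun h => ?_
  have hc : ∀ a b : Fi23, a * b = b * a := fun a b => by
    have hab : ⁅a, b⁆ ∈ commutator Fi23 :=
      Subgroup.commutator_mem_commutator (Subgroup.mem_top a) (Subgroup.mem_top b)
    rw [h, Subgroup.mem_bot, commutatorElement_eq_one_iff_mul_comm] at hab
    exact hab
  have : (⊤ : Subgroup Fi23) ≤ Subgroup.center Fi23 := fun a _ => Subgroup.mem_center_iff.2 fun b => hc b a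
  rw [Fi24Model.center_Fi23] at this
  obtain ⟨a, ha⟩ := exists_ne (1 : Fi23)
  exact ha (this (Subgroup.mem_top a))

/-- Fi23 lifts to every finite central extension. -/
theorem exists_lift {E G : Type*} [Group E] [Finite E] [Group G] (π : E →* G)
    (hsur : Function.Surjective π) (hker : π.ker ≤ Subgroup.center E) (φ : Fi23 →* G) :
    ∃ f : Fi23 →* E, π.comp f = φ := by
  have := CosetCert.Fi23P.finite
  let P : Subgroup (Fi23 × E) := (φ.comp (MonoidHom.fst Fi23 E)).eqLocus (π.comp (MonoidHom.snd Fi23 E))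
  let D : Subgroup P := commutator P
  let σ : D →* Fi23 := (MonoidHom.fst Fi23 E).comp (P.subtype.comp D.subtype)
  have hcen : ∀ p : P, p.1.1 = 1 → p ∈ Subgroup.center P := fun p hp => by
    have h2 : p.1.2 ∈ Subgroup.center E := hker (by
      rw [MonoidHom.mem_ker]
      exact (show φ p.1.1 = π p.1.2 from p.2).symm.trans (by rw [hp, map_one]))
    exact Subgroup.mem_center_iff.2 fun q => Subtype.ext (Prod.ext (by simp [hp])
      (Subgroup.mem_center_iff.1 h2 q.1.2))
  have hPsur : ∀ x, ∃ p : P, p.1.1 = x := fun x => by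
    obtain ⟨e, he⟩ := hsur (φ x)
    exact ⟨⟨(x, e), he.symm⟩, rfl⟩
  have hσsur : Function.Surjective σ := fun x => by
    have hmap : D.map ((MonoidHom.fst Fi23 E).comp P.subtype) = ⊤ := by
      rw [show D = ⁅(⊤ : Subgroup P), ⊤⁆ from rfl, Subgroup.map_commutator,
        Subgroup.map_top_of_surjective _ (show Function.Surjective ((MonoidHom.fst Fi23 E).comp P.subtype) from
          hPsur), ← commutator_def, perfect_Fi23]
    obtain ⟨p, hp, e⟩ := hmap ▸ Subgroup.mem_top x
    exact ⟨⟨p, hp⟩, e⟩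
  have hD : ∀ d : D, d ∈ commutator D := by
    have hsplit : ∀ p : P, ∃ d : D, ∃ z ∈ Subgroup.center P, p = d * z := fun p => by
      obtain ⟨d, hd⟩ := hσsur p.1.1
      refine ⟨d, (d : P)⁻¹ * p, hcen _ ?_, (mul_inv_cancel_left _ _).symm⟩
      show ((d : P) : Fi23 × E).1⁻¹ * p.1.1 = 1
      rw [show ((d : P) : Fi23 × E).1 = p.1.1 from hd, inv_mul_cancel]
    have hle : D ≤ (commutator D).map D.subtype := by
      refine Subgroup.commutator_le.2 ?_
      intro a _ b _
      obtain ⟨a', z, hz, rfl⟩ := hsplit a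
      obtain ⟨b', w, hw, rfl⟩ := hsplit b
      refine ⟨⁅a', b'⁆, Subgroup.commutator_mem_commutator (Subgroup.mem_top _) (Subgroup.mem_top _), ?_⟩
      rw [map_commutatorElement]
      simp only [Subgroup.coe_subtype, commutatorElement_def, mul_inv_rev]
      have hzc : ∀ q, z * q = q * z := fun q => (Subgroup.mem_center_iff.1 hz q).symm
      have hwc : ∀ q, w * q = q * w := fun q => (Subgroup.mem_center_iff.1 hw q).symm
      calc (a' : P) * b' * (a' : P)⁻¹ * (b' : P)⁻¹
          = (a' : P) * (b' * (z * z⁻¹) * (a' : P)⁻¹) * ((w * w⁻¹) * (b' : P)⁻¹) := by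
            rw [mul_inv_cancel, mul_inv_cancel, mul_one, one_mul]; group
        _ = (a' : P) * z * (b' * w) * (z⁻¹ * (a' : P)⁻¹) * (w⁻¹ * (b' : P)⁻¹) := by
            rw [show (a' : P) * z * (b' * w) = (a' : P) * (b' * z) * w by
                rw [mul_assoc (a' : P) z, ← mul_assoc z, hzc, mul_assoc, mul_assoc, mul_assoc],
              show (a' : P) * (b' * z) * w * (z⁻¹ * (a' : P)⁻¹) =
                (a' : P) * (b' * z) * (z⁻¹ * (a' : P)⁻¹) * w by
                rw [mul_assoc _ w, hwc, ← mul_assoc]]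
            group
    intro d
    obtain ⟨d', hd', e⟩ := hle d.2
    exact Subtype.ext e ▸ hd'
  have hstem : Cfsg.IsStemExtension σ := ⟨hσsur, fun d hd => by
    have := Subgroup.mem_center_iff.1 (hcen d.1 hd)
    exact Subgroup.mem_center_iff.2 fun q => Subtype.ext (this q.1), fun d _ => hD d⟩
  have hinj : Function.Injective σ :=
    (MonoidHom.ker_eq_bot_iff σ).1 (CosetCert.Fi23P.MultFi.stem_trivial hstem)
  let e := MulEquiv.ofBijective σ ⟨hinj, hσsur⟩
  refine ⟨(MonoidHom.snd Fi23 E).comp (P.subtype.comp (D.subtype.comp e.symm.toMonoidHom)),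
    MonoidHom.ext fun x => ?_⟩
  show π ((e.symm x : P) : Fi23 × E).2 = φ x
  rw [← (show φ ((e.symm x : P) : Fi23 × E).1 = π ((e.symm x : P) : Fi23 × E).2 from (e.symm x : P).2)]
  exact congrArg φ (e.apply_symm_apply x)

/-- The stabiliser of the base point of Fi23. -/
noncomputable abbrev S23 : Subgroup Fi23 := CosetCert.Fi23P.sub lH

theorem perfect_S23 : commutator S23 = ⊤ := by
  let χ : S23 →* Abelianization S23 := Abelianization.of
  let gx : ∀ x ∈ lH, S23 := fun x hx => ⟨CosetCert.Fi23P.coding.gen x, Subgroup.subset_closure ⟨x, hx, rfl⟩⟩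
  have step : ∀ x y (hx : x ∈ lH) (hy : y ∈ lH), (x, y) ∈ CosetCert.Fi23P.Two.treePairs →
      χ (gx y hy) = χ (gx x hx) := fun x y hx hy h => by
    have e : gx y hy = gx x hx * gx y hy * gx x hx * (gx x hx * gx y hy)⁻¹ :=
      Subtype.ext (CosetCert.Fi23P.Two.braid h)
    conv_lhs => rw [e]
    rw [map_mul, map_mul, map_mul, map_inv, map_mul]
    rw [mul_comm (χ (gx x hx) * χ (gx y hy)) (χ (gx x hx)), mul_inv_cancel_right]
  have all : ∀ x (hx : x ∈ lH), χ (gx x hx) = χ (gx 0 (by decide)) := by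
    have h1 := step 0 1 (by decide) (by decide) (by decide)
    have h2 := (step 1 2 (by decide) (by decide) (by decide)).trans h1
    have h3 := (step 2 3 (by decide) (by decide) (by decide)).trans h2
    have h4 := (step 3 4 (by decide) (by decide) (by decide)).trans h3
    have h5 := (step 4 5 (by decide) (by decide) (by decide)).trans h4
    have h6 := (step 5 6 (by decide) (by decide) (by decide)).trans h5
    have h8 := (step 3 8 (by decide) (by decide) (by decide)).trans h3
    have h9 := (step 8 9 (by decide) (by decide) (by decide)).trans h8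
    intro x hx
    have hx' := hx
    simp only [List.mem_cons, List.not_mem_nil, or_false] at hx'
    rcases hx' with rfl | rfl | rfl | rfl | rfl | rfl | rfl | rfl | rfl <;>
      first | rfl | assumption
  have h7 : gx 0 (by decide) * gx 1 (by decide) * gx 2 (by decide) * gx 3 (by decide) * gx 4 (by decide) *
      gx 5 (by decide) * gx 8 (by decide) ∈ {s : S23 | s ^ 9 = 1} := by
    have hm : PresentedGroup.mk (coxRelators Fi23.edges ∪ {r | r ∈ Fi23.extra})
        ((Fi23.a * Fi23.b * Fi23.c * Fi23.d * Fi23.e * Fi23.f * Fi23.h) ^ 9) = 1 :=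
      PresentedGroup.one_of_mem (Or.inr (by simp [Fi23.extra]))
    have hof : ∀ x : Fi23.Gen, PresentedGroup.mk (coxRelators Fi23.edges ∪ {r | r ∈ Fi23.extra})
        (FreeGroup.of x) = CosetCert.Fi23P.coding.gen (CosetCert.Fi23P.code x) := fun x =>
      (CosetCert.Fi23P.coding.gen_code x).symm
    simp only [map_pow, map_mul, Fi23.a, Fi23.b, Fi23.c, Fi23.d, Fi23.e, Fi23.f, Fi23.h, hof] at hm
    refine Subtype.ext ?_
    simp only [SubmonoidClass.coe_pow, Subgroup.coe_mul, Subgroup.coe_one]
    exact hm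
  have ht : χ (gx 0 (by decide)) = 1 := by
    have h := congrArg χ h7
    simp only [map_pow, map_mul, map_one, all] at h
    have hsq : χ (gx 0 (by decide)) ^ 2 = 1 := by
      rw [← map_pow, ← map_one χ]
      refine congrArg χ (Subtype.ext ?_)
      show CosetCert.Fi23P.coding.gen 0 ^ 2 = 1
      rw [pow_two]
      exact CosetCert.Fi23P.Two.gen_sq (by norm_num)
    generalize χ (gx 0 (by decide)) = t at h hsq ⊢
    calc t = t * (t ^ 2) ^ 31 := by rw [hsq, one_pow, mul_one]
      _ = (t * t * t * t * t * t * t) ^ 9 := by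
        rw [← pow_mul, ← pow_succ']
        simp only [← pow_two, ← pow_succ, ← pow_mul]
      _ = 1 := h
  have hker : ∀ s : S23, χ s = 1 := by
    rintro ⟨s, hs⟩
    induction hs using Subgroup.closure_induction with
    | mem y hy =>
      obtain ⟨x, hx, rfl⟩ := hy
      exact (all x hx).trans ht
    | one => exact map_one χ
    | mul a b ha hb iha ihb =>
      rw [show (⟨a * b, _⟩ : S23) = ⟨a, ha⟩ * ⟨b, hb⟩ from rfl, map_mul, iha, ihb, mul_one]
    | inv a ha iha =>
      rw [show (⟨a⁻¹, _⟩ : S23) = (⟨a, ha⟩ : S23)⁻¹ from rfl, map_inv, iha, inv_one]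
  rw [eq_top_iff, ← Abelianization.ker_of]
  exact fun s _ => hker s

/-- The stabiliser moved to the centraliser of `a`. -/
noncomputable def jA : S23 →* Fi23 := (MulAut.conj (el pathWord)).toMonoidHom.comp S23.subtype

theorem jA_comm (s : S23) : Commute (jA s) (CosetCert.Fi23P.coding.gen 0) := by
  rw [gen_eq_dp 0 (by norm_num)]
  refine CosetCert.Fi23P.Two.comm_of_fix ?_
  have hg : CosetCert.Fi23P.hom (el pathWord) pt = gpt 0 :=
    Fin.ext (by rw [el_img (by decide), gpt_val (by norm_num)]; exact path_ok)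
  show CosetCert.Fi23P.hom (el pathWord * (s : Fi23) * (el pathWord)⁻¹) (gpt 0) = gpt 0
  rw [map_mul, map_mul, Equiv.Perm.mul_apply, Equiv.Perm.mul_apply, map_inv, ← hg, Equiv.Perm.inv_def,
    Equiv.symm_apply_apply, hom_fix _ s.2]

theorem exists_jA {x : Fi23} (h : Commute x (CosetCert.Fi23P.coding.gen 0)) : ∃ s, jA s = x := by
  have hg : CosetCert.Fi23P.hom (el pathWord) pt = gpt 0 :=
    Fin.ext (by rw [el_img (by decide), gpt_val (by norm_num)]; exact path_ok)
  have hfix : CosetCert.Fi23P.hom x (gpt 0) = gpt 0 := CosetCert.Fi23P.OutFi.dp_injective (by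
    rw [← conj_dp, ← gen_eq_dp 0 (by norm_num), h.eq, mul_inv_cancel_right])
  refine ⟨⟨(el pathWord)⁻¹ * x * el pathWord, stab_le ?_⟩, ?_⟩
  · rw [map_mul, map_mul, Equiv.Perm.mul_apply, Equiv.Perm.mul_apply, hg, hfix, map_inv, Equiv.Perm.inv_def,
      Equiv.symm_apply_eq, hg]
  · show el pathWord * ((el pathWord)⁻¹ * x * el pathWord) * (el pathWord)⁻¹ = x
    group

theorem embFi_even (x : Fi23) : Fi24Model.embFi x ∈ commutator Fi24 := by
  rw [Fi24Model.commutator_eq_ker, MonoidHom.mem_ker, Fi24Model.signHom_embFi]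

/-- Fi23 moved to the centraliser of the transposition `g l g⁻¹`. -/
noncomputable def iota (g : Fi24) : Fi23 →* ↥(commutator Fi24) :=
  ((MulAut.conj g).toMonoidHom.comp Fi24Model.embFi).codRestrict _ fun x =>
    (inferInstance : (commutator Fi24).Normal).conj_mem _ (embFi_even x) g

theorem iota_val (g : Fi24) (x : Fi23) : (iota g x : Fi24) = g * Fi24Model.embFi x * g⁻¹ := rfl

theorem iota_injective (g : Fi24) : Function.Injective (iota g) := fun a b h =>
  Fi24Model.embFi_injective ((MulAut.conj g).injective (congrArg Subtype.val h))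

theorem iota_comm (g : Fi24) (x : Fi23) :
    Commute (iota g x : Fi24) (g * Fi24Model.gen 0 * g⁻¹) :=
  (Fi24Model.l_central (Fi24Model.embFi_mem_H x)).symm.map (MulAut.conj g).toMonoidHom

theorem exists_iota {g : Fi24} {y : ↥(commutator Fi24)}
    (h : Commute (y : Fi24) (g * Fi24Model.gen 0 * g⁻¹)) : ∃ x, iota g x = y := by
  have h' := h.map (MulAut.conj g⁻¹).toMonoidHom
  simp only [MulEquiv.coe_toMonoidHom, MulAut.conj_apply, inv_inv] at h'
  rw [show g⁻¹ * (g * Fi24Model.gen 0 * g⁻¹) * g = Fi24Model.gen 0 by group] at h'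
  have hm : g⁻¹ * y * g ∈ Fi24Model.Hsub := by
    rw [← Fi24Model.centralizer_l, Subgroup.mem_centralizer_singleton_iff]
    exact h'.eq
  obtain ⟨x, e, hx⟩ := Fi24Model.exists_embFi hm
  have hy := (inferInstance : (commutator Fi24).Normal).conj_mem _ y.2 g⁻¹
  rw [inv_inv, hx, Fi24Model.commutator_eq_ker, MonoidHom.mem_ker, map_mul, Fi24Model.signHom_embFi, one_mul,
    map_pow, Fi24Model.signHom_gen (by norm_num)] at hy
  have he : Fi24Model.gen 0 ^ e = 1 := by
    rw [Fi24Model.l_pow]
    rcases Nat.mod_two_eq_zero_or_one e with hm | hm <;> rw [hm]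
    · exact pow_zero _
    · exfalso
      rw [← Nat.div_add_mod e 2, hm, pow_add, pow_mul, neg_one_sq, one_pow, one_mul, pow_one] at hy
      exact absurd hy (by decide)
  rw [he, mul_one] at hx
  refine ⟨x, Subtype.ext ?_⟩
  rw [iota_val, ← hx]
  group

theorem a_eq : Fi24Model.gen 2 = Fi24Model.embFi (CosetCert.Fi23P.coding.gen 0) * Fi24Model.gen 0 := by
  rw [Fi24Model.embFi_gen (by norm_num), mul_assoc, Fi24Model.gen_sq (by norm_num), mul_one]

theorem iota_jA_comm (h : Fi24) (s : S23) :
    Commute (iota h (jA s) : Fi24) (h * Fi24Model.gen 2 * h⁻¹) := by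
  refine Commute.map ?_ (MulAut.conj h).toMonoidHom
  rw [a_eq]
  exact ((jA_comm s).map Fi24Model.embFi).mul_right (Fi24Model.l_central (Fi24Model.embFi_mem_H _)).symm

theorem exists_pair_iota {h : Fi24} {y : ↥(commutator Fi24)}
    (h1 : Commute (y : Fi24) (h * Fi24Model.gen 0 * h⁻¹)) (h2 : Commute (y : Fi24) (h * Fi24Model.gen 2 * h⁻¹)) :
    ∃ s, iota h (jA s) = y := by
  obtain ⟨x, rfl⟩ := exists_iota h1
  have h3 := h2.map (MulAut.conj h⁻¹).toMonoidHom
  simp only [MulEquiv.coe_toMonoidHom, MulAut.conj_apply, inv_inv, iota_val] at h3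
  rw [show h⁻¹ * (h * Fi24Model.embFi x * h⁻¹) * h = Fi24Model.embFi x by group,
    show h⁻¹ * (h * Fi24Model.gen 2 * h⁻¹) * h = Fi24Model.gen 2 by group, a_eq] at h3
  have hc := h3.mul_right (Fi24Model.l_central (Fi24Model.embFi_mem_H x)).symm
  rw [mul_assoc, Fi24Model.gen_sq (by norm_num), mul_one] at hc
  obtain ⟨s, rfl⟩ := exists_jA (x := x) (Fi24Model.embFi_injective (by rw [map_mul, map_mul]; exact hc.eq))
  exact ⟨s, rfl⟩

/-- Two commuting transpositions, the images of `l` and `a` under one element. -/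
def Pair (d e : Fi24) : Prop := ∃ h : Fi24, h * Fi24Model.gen 0 * h⁻¹ = d ∧ h * Fi24Model.gen 2 * h⁻¹ = e

theorem letters_comm {p q : ℕ} (hp : p < 12) (hq : q < 12)
    (h : Fi24Model.isRel [p, q, p, q] = true) : Commute (Fi24Model.gen p) (Fi24Model.gen q) :=
  Fi24Model.UB.commute_of_isRel hp hq h

theorem Pair.step_snd {d : Fi24} {p q : ℕ} (h : Pair d (Fi24Model.gen p)) (hj : (p, q) ∈ Fi24Model.joined)
    (hp : Commute d (Fi24Model.gen p)) (hq : Commute d (Fi24Model.gen q)) : Pair d (Fi24Model.gen q) := by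
  obtain ⟨g, h1, h2⟩ := h
  refine ⟨Fi24Model.gen p * Fi24Model.gen q * g, ?_, ?_⟩
  · calc _ = Fi24Model.gen p * Fi24Model.gen q * d * (Fi24Model.gen p * Fi24Model.gen q)⁻¹ := by
          rw [← h1]; group
      _ = _ := by rw [← (hp.mul_right hq).eq, mul_inv_cancel_right]
  · calc _ = Fi24Model.gen p * Fi24Model.gen q * (g * Fi24Model.gen 2 * g⁻¹) *
          (Fi24Model.gen p * Fi24Model.gen q)⁻¹ := by group
      _ = _ := by rw [h2]; exact (Fi24Model.braid_conj hj).symm

theorem Pair.step_fst {e : Fi24} {p q : ℕ} (h : Pair (Fi24Model.gen p) e) (hj : (p, q) ∈ Fi24Model.joined)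
    (hp : Commute e (Fi24Model.gen p)) (hq : Commute e (Fi24Model.gen q)) : Pair (Fi24Model.gen q) e := by
  obtain ⟨g, h1, h2⟩ := h
  refine ⟨Fi24Model.gen p * Fi24Model.gen q * g, ?_, ?_⟩
  · calc _ = Fi24Model.gen p * Fi24Model.gen q * (g * Fi24Model.gen 0 * g⁻¹) *
          (Fi24Model.gen p * Fi24Model.gen q)⁻¹ := by group
      _ = _ := by rw [h1]; exact (Fi24Model.braid_conj hj).symm
  · calc _ = Fi24Model.gen p * Fi24Model.gen q * e * (Fi24Model.gen p * Fi24Model.gen q)⁻¹ := by
          rw [← h2]; group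
      _ = _ := by rw [← (hp.mul_right hq).eq, mul_inv_cancel_right]

theorem pair_l_a : Pair (Fi24Model.gen 0) (Fi24Model.gen 2) := ⟨1, by simp, by simp⟩

theorem pairs_lbj : Pair (Fi24Model.gen 0) (Fi24Model.gen 3) ∧ Pair (Fi24Model.gen 0) (Fi24Model.gen 9) ∧
    Pair (Fi24Model.gen 3) (Fi24Model.gen 9) := by
  have c : ∀ {p q : ℕ}, p < 12 → q < 12 → Fi24Model.isRel [p, q, p, q] = true →
      Commute (Fi24Model.gen p) (Fi24Model.gen q) := fun hp hq h => letters_comm hp hq h
  have h3 : Pair (Fi24Model.gen 0) (Fi24Model.gen 3) := pair_l_a.step_snd (p := 2) (by decide)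
    (c (by norm_num) (by norm_num) (by decide +kernel)) (c (by norm_num) (by norm_num) (by decide +kernel))
  have snd : ∀ {p q : ℕ}, Pair (Fi24Model.gen 0) (Fi24Model.gen p) → (p, q) ∈ Fi24Model.joined →
      p < 12 → q < 12 → Fi24Model.isRel [0, p, 0, p] = true → Fi24Model.isRel [0, q, 0, q] = true →
      Pair (Fi24Model.gen 0) (Fi24Model.gen q) := fun h hj hp hq r1 r2 =>
    h.step_snd hj (c (by norm_num) hp r1) (c (by norm_num) hq r2)
  have fst : ∀ {p q : ℕ}, Pair (Fi24Model.gen p) (Fi24Model.gen 9) → (p, q) ∈ Fi24Model.joined →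
      p < 12 → q < 12 → Fi24Model.isRel [p, 9, p, 9] = true → Fi24Model.isRel [q, 9, q, 9] = true →
      Pair (Fi24Model.gen q) (Fi24Model.gen 9) := fun h hj hp hq r1 r2 =>
    h.step_fst hj (c hp (by norm_num) r1).symm (c hq (by norm_num) r2).symm
  have h4 := snd (q := 4) h3 (by decide) (by norm_num) (by norm_num) (by decide +kernel) (by decide +kernel)
  have h5 := snd (q := 5) h4 (by decide) (by norm_num) (by norm_num) (by decide +kernel) (by decide +kernel)
  have h6 := snd (q := 6) h5 (by decide) (by norm_num) (by norm_num) (by decide +kernel) (by decide +kernel)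
  have h7 := snd (q := 7) h6 (by decide) (by norm_num) (by norm_num) (by decide +kernel) (by decide +kernel)
  have h8 := snd (q := 8) h7 (by decide) (by norm_num) (by norm_num) (by decide +kernel) (by decide +kernel)
  have h9 := snd (q := 9) h8 (by decide) (by norm_num) (by norm_num) (by decide +kernel) (by decide +kernel)
  have k9 := fst (q := 1) h9 (by decide) (by norm_num) (by norm_num) (by decide +kernel) (by decide +kernel)
  have a9 := fst (q := 2) k9 (by decide) (by norm_num) (by norm_num) (by decide +kernel) (by decide +kernel)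
  exact ⟨h3, h9, fst (q := 3) a9 (by decide) (by norm_num) (by norm_num) (by decide +kernel)
    (by decide +kernel)⟩

section Ext

variable {E : Type*} [Group E] [Finite E] (π : E →* ↥(commutator Fi24)) (hsur : Function.Surjective π)
  (hker : π.ker ≤ Subgroup.center E)

/-- The lift of Fi23 moved by `g`. -/
noncomputable def lam (g : Fi24) : Fi23 →* E := (exists_lift π hsur hker (iota g)).choose

theorem pi_lam (g : Fi24) (x : Fi23) : π (lam π hsur hker g x) = iota g x :=
  DFunLike.congr_fun (exists_lift π hsur hker (iota g)).choose_spec x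

theorem agree_aux {g h : Fi24} (hc : ∀ s, Commute (iota h (jA s) : Fi24) (g * Fi24Model.gen 0 * g⁻¹))
    {x : Fi23} {s : S23} (e : iota g x = iota h (jA s)) :
    lam π hsur hker g x = lam π hsur hker h (jA s) := by
  have hex : ∀ t : S23, ∃ y, iota g y = iota h (jA t) := fun t => exists_iota (hc t)
  choose τ hτ using hex
  let τh : S23 →* Fi23 :=
    { toFun := τ
      map_one' := iota_injective g (by rw [hτ, map_one, map_one, map_one])
      map_mul' := fun _ _ => iota_injective g (by rw [hτ, map_mul, map_mul, map_mul, hτ, hτ]) }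
  have hu := hom_unique π hker perfect_S23 ((lam π hsur hker g).comp τh) ((lam π hsur hker h).comp jA)
    fun t => by
      show π (lam π hsur hker g (τ t)) = π (lam π hsur hker h (jA t))
      rw [pi_lam, pi_lam, hτ]
  rw [show x = τ s from iota_injective g (e.trans (hτ s).symm)]
  exact DFunLike.congr_fun hu s

/-- Lifts for two commuting transpositions agree on their common centraliser. -/
theorem lam_agree {g₁ g₂ : Fi24}
    (hp : Pair (g₁ * Fi24Model.gen 0 * g₁⁻¹) (g₂ * Fi24Model.gen 0 * g₂⁻¹)) {x₁ x₂ : Fi23}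
    (e : iota g₁ x₁ = iota g₂ x₂) : lam π hsur hker g₁ x₁ = lam π hsur hker g₂ x₂ := by
  obtain ⟨h, h1, h2⟩ := hp
  obtain ⟨s, hs⟩ := exists_pair_iota (h := h) (y := iota g₁ x₁) (h1 ▸ iota_comm g₁ x₁)
    (h2 ▸ e ▸ iota_comm g₂ x₂)
  rw [agree_aux π hsur hker (fun t => h1 ▸ iota_comm h (jA t)) hs.symm,
    agree_aux π hsur hker (fun t => h2 ▸ iota_jA_comm h t) (e.symm.trans hs.symm)]

end Ext

end CfsgLib.Sporadic.Fi24Mult
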