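import Cfsg.Agent.Lib.Sporadic.Fi24Mult.ShiftData
import Cfsg.Agent.Lib.Sporadic.Fi24Model.Coding

/-!
# Three sheets over the model of Fi24

A network moves the points of the model, adds a shift modulo three to the sheet and may negate it.
The shifts of a word are computed on two bit planes, pulled back along the networks.
-/

set_option autoImplicit false
set_option maxRecDepth 100000

open Cfsg.Spor

namespace CfsgLib.Sporadic.Fi24Mult

open Fi24Model (size Layer force force_eq glue maskOf stepP stepP_testBit okLayer okNet netPerm layPerm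
  layPerm_val prim primPerm primPerm_inv primInv reduce evalP gcode wperm wordCode netsOf okNet_netsOf
  netPerm_netsOf prim_ok)

/-- The value at a point of a pair of planes. -/
def dig (a b : ℕ) (u : ℕ) : ZMod 3 := bif a.testBit u then 1 else bif b.testBit u then 2 else 0

/-- Two planes are disjoint. -/
def Disj (a b : ℕ) : Prop := ∀ u, (a.testBit u && b.testBit u) = false

/-- The sum of two pairs of planes. -/
noncomputable def addK {α : Type} (a1 a2 b1 b2 : ℕ) (k : ℕ → ℕ → α) : α :=
  force (Nat.xor (Nat.lor a1 b2) (Nat.lor a2 b1)) fun t =>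
    force (Nat.xor (Nat.lor a2 b2) t) fun r1 => force (Nat.xor (Nat.lor a1 b1) t) fun r2 => k r1 r2

/-- The first plane of a sum. -/
def add1 (a1 a2 b1 b2 : ℕ) : ℕ := (a2 ||| b2) ^^^ ((a1 ||| b2) ^^^ (a2 ||| b1))

/-- The second plane of a sum. -/
def add2 (a1 a2 b1 b2 : ℕ) : ℕ := (a1 ||| b1) ^^^ ((a1 ||| b2) ^^^ (a2 ||| b1))

theorem addK_eq {α : Type} (a1 a2 b1 b2 : ℕ) (k : ℕ → ℕ → α) :
    addK a1 a2 b1 b2 k = k (add1 a1 a2 b1 b2) (add2 a1 a2 b1 b2) := by
  unfold addK
  rw [force_eq, force_eq, force_eq]
  rfl

theorem add_spec {a1 a2 b1 b2 : ℕ} (ha : Disj a1 a2) (hb : Disj b1 b2) :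
    Disj (add1 a1 a2 b1 b2) (add2 a1 a2 b1 b2) ∧
      ∀ u, dig (add1 a1 a2 b1 b2) (add2 a1 a2 b1 b2) u = dig a1 a2 u + dig b1 b2 u := by
  have key : ∀ x y z w : Bool, (x && y) = false → (z && w) = false →
      ((((y || w) ^^ ((x || w) ^^ (y || z))) && ((x || z) ^^ ((x || w) ^^ (y || z)))) = false ∧
      (bif (y || w) ^^ ((x || w) ^^ (y || z)) then (1 : ZMod 3)
        else bif (x || z) ^^ ((x || w) ^^ (y || z)) then 2 else 0) =
        (bif x then 1 else bif y then 2 else 0) + (bif z then 1 else bif w then 2 else 0)) := by decide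
  constructor
  · intro u
    simp only [add1, add2, Nat.testBit_xor, Nat.testBit_or]
    exact (key _ _ _ _ (ha u) (hb u)).1
  · intro u
    simp only [dig, add1, add2, Nat.testBit_xor, Nat.testBit_or]
    exact (key _ _ _ _ (ha u) (hb u)).2

theorem dig_swap {a b : ℕ} (h : Disj a b) (u : ℕ) : dig b a u = -dig a b u := by
  have key : ∀ x y : Bool, (x && y) = false →
      (bif y then (1 : ZMod 3) else bif x then 2 else 0) = -(bif x then 1 else bif y then 2 else 0) := by decide
  exact key _ _ (h u)

theorem dig_zero (u : ℕ) : dig 0 0 u = 0 := by simp [dig]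

/-- A network applied to two planes. -/
noncomputable def run2 {α : Type} (net : List Layer) : ℕ → ℕ → (ℕ → ℕ → α) → α :=
  List.rec (motive := fun _ => ℕ → ℕ → (ℕ → ℕ → α) → α) (fun a b k => k a b)
    (fun L _ ih a b k => force (maskOf L) fun m =>
      force (stepP L.1 m a) fun a' => force (stepP L.1 m b) fun b' => ih a' b' k) net

theorem run2_spec {α : Type} (net : List Layer) : okNet net = true → ∀ (a b : ℕ), ∃ a' b',
    (∀ k : ℕ → ℕ → α, run2 net a b k = k a' b') ∧
      (∀ u : Fin size, a'.testBit u = a.testBit (netPerm net u : Fin size)) ∧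
      (∀ u : Fin size, b'.testBit u = b.testBit (netPerm net u : Fin size)) ∧ (Disj a b → Disj a' b') := by
  induction net with
  | nil => intro _ a b; exact ⟨a, b, fun _ => rfl, fun _ => rfl, fun _ => rfl, id⟩
  | cons L t ih =>
    intro h a b
    change (okLayer L && okNet t) = true at h
    rw [Bool.and_eq_true] at h
    obtain ⟨a', b', hk, ha, hb, hd⟩ := ih h.2 (stepP L.1 (maskOf L) a) (stepP L.1 (maskOf L) b)
    have e : ∀ u : Fin size, netPerm (L :: t) u = layPerm L (netPerm t u) := fun u => by simp [netPerm]
    refine ⟨a', b', fun k => ?_, fun u => ?_, fun u => ?_, fun hab => hd fun u => ?_⟩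
    · show force (maskOf L) (fun m => force (stepP L.1 m a) fun x => force (stepP L.1 m b) fun y =>
        run2 t x y k) = _
      rw [force_eq, force_eq, force_eq, hk]
    · rw [ha, stepP_testBit h.1, e, layPerm_val h.1]
    · rw [hb, stepP_testBit h.1, e, layPerm_val h.1]
    · rw [stepP_testBit h.1, stepP_testBit h.1]
      exact hab _

/-- A permutation of the points with a shift and a possible negation of the sheet. -/
def mono (p : Equiv.Perm (Fin size)) (f : Bool) (D : Fin size → ZMod 3) :
    Equiv.Perm (Fin size × ZMod 3) where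
  toFun x := (p x.1, (bif f then -x.2 else x.2) + D x.1)
  invFun x := (p.symm x.1, bif f then -(x.2 - D (p.symm x.1)) else x.2 - D (p.symm x.1))
  left_inv x := by cases f <;> simp
  right_inv x := by cases f <;> simp

theorem mono_apply (p : Equiv.Perm (Fin size)) (f : Bool) (D : Fin size → ZMod 3) (u : Fin size) (i : ZMod 3) :
    mono p f D (u, i) = (p u, (bif f then -i else i) + D u) := rfl

theorem mono_one : mono 1 false (fun _ => 0) = 1 := by
  refine Equiv.ext fun ⟨u, i⟩ => ?_
  simp [mono_apply]

theorem mono_mul (p q : Equiv.Perm (Fin size)) (f g : Bool) (D D' : Fin size → ZMod 3) :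
    mono p f D * mono q g D' =
      mono (p * q) (f ^^ g) fun u => (bif f then -D' u else D' u) + D (q u) := by
  refine Equiv.ext fun ⟨u, i⟩ => ?_
  rw [Equiv.Perm.mul_apply, mono_apply, mono_apply, mono_apply, Equiv.Perm.mul_apply]
  cases f <;> cases g <;> simp [add_assoc, add_comm, add_left_comm]

/-- The shift data of a network. -/
def shiftOf : ℕ → List ℕ × List ℕ
  | 0 => (shift0_1, shift0_2)
  | 1 => (shift1_1, shift1_2)
  | 2 => (shift2_1, shift2_2)
  | 3 => (shift3_1, shift3_2)
  | 4 => (shift4_1, shift4_2)
  | _ => ([], [])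

/-- Whether a network negates the sheet. -/
def negOf : ℕ → Bool
  | 2 | 3 | 4 => true
  | _ => false

/-- The shift of a network at a point. -/
noncomputable def shiftAt (i : ℕ) (u : ℕ) : ZMod 3 := dig (glue (shiftOf i).1) (glue (shiftOf i).2) u

theorem shift_disj (i : ℕ) : Disj (glue (shiftOf i).1) (glue (shiftOf i).2) := by
  have key : ∀ i < 6, Nat.land (glue (shiftOf i).1) (glue (shiftOf i).2) = 0 := by decide +kernel
  have hi : ∃ j < 6, shiftOf i = shiftOf j := by
    rcases i with _ | _ | _ | _ | _ | i
    exacts [⟨0, by norm_num, rfl⟩, ⟨1, by norm_num, rfl⟩, ⟨2, by norm_num, rfl⟩, ⟨3, by norm_num, rfl⟩,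
      ⟨4, by norm_num, rfl⟩, ⟨5, by norm_num, rfl⟩]
  obtain ⟨j, hj, e⟩ := hi
  intro u
  have h := congrArg (fun x => Nat.testBit x u) (key j hj)
  rw [e]
  simpa using h

/-- A network on the three sheets. -/
noncomputable def mprim (i : ℕ) : Equiv.Perm (Fin size × ZMod 3) :=
  mono (primPerm i) (negOf i) fun u => shiftAt i u

/-- The product of a list of network numbers on the three sheets. -/
noncomputable def evalM (l : List ℕ) : Equiv.Perm (Fin size × ZMod 3) := (l.map mprim).prod

theorem evalM_append (a b : List ℕ) : evalM (a ++ b) = evalM a * evalM b := by simp [evalM]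

/-- The sheet part of a product, computed from the left. -/
noncomputable def runM {α : Type} (l : List ℕ) : Bool → ℕ → ℕ → (Bool → ℕ → ℕ → α) → α :=
  List.rec (motive := fun _ => Bool → ℕ → ℕ → (Bool → ℕ → ℕ → α) → α) (fun f a b k => k f a b)
    (fun i _ ih f a b k => run2 (prim i) a b fun a1 b1 =>
      force (glue (shiftOf i).1) fun s1 => force (glue (shiftOf i).2) fun s2 =>
        bif f then addK s2 s1 a1 b1 fun r1 r2 => ih (f ^^ negOf i) r1 r2 k
        else addK s1 s2 a1 b1 fun r1 r2 => ih (f ^^ negOf i) r1 r2 k) l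

theorem runM_spec {α : Type} : ∀ (l pre : List ℕ) (f : Bool) (a b : ℕ), Disj a b →
    evalM pre = mono (evalP pre) f (fun u => dig a b u) →
    ∃ f' a' b', (∀ k : Bool → ℕ → ℕ → α, runM l f a b k = k f' a' b') ∧ Disj a' b' ∧
      evalM (pre ++ l) = mono (evalP (pre ++ l)) f' (fun u => dig a' b' u) := by
  intro l
  induction l with
  | nil => intro pre f a b hd h; exact ⟨f, a, b, fun _ => rfl, hd, by rwa [List.append_nil]⟩
  | cons i t ih =>
    intro pre f a b hd h
    obtain ⟨a1, b1, hk1, ha1, hb1, hd1⟩ := run2_spec (α := α) (prim i) (prim_ok i) a b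
    let S1 := bif f then glue (shiftOf i).2 else glue (shiftOf i).1
    let S2 := bif f then glue (shiftOf i).1 else glue (shiftOf i).2
    have hS : Disj S1 S2 := by
      cases f
      · exact shift_disj i
      · intro u; rw [Bool.and_comm]; exact shift_disj i u
    have hSd : ∀ u, dig S1 S2 u = bif f then -shiftAt i u else shiftAt i u := fun u => by
      cases f
      · rfl
      · exact dig_swap (shift_disj i) u
    obtain ⟨hd2, hadd⟩ := add_spec hS (hd1 hd)
    have hstep : evalM (pre ++ [i]) = mono (evalP (pre ++ [i])) (f ^^ negOf i)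
        (fun u => dig (add1 S1 S2 a1 b1) (add2 S1 S2 a1 b1) u) := by
      rw [evalM_append, h, Fi24Model.evalP_append, show evalM [i] = mprim i by simp [evalM],
        show evalP [i] = primPerm i by simp [evalP], mprim, mono_mul]
      congr 1
      funext u
      rw [hadd, hSd]
      congr 1
      show dig a b (primPerm i u : Fin size) = dig a1 b1 u
      simp only [dig, ha1, hb1]
      rfl
    obtain ⟨f', a', b', hk, hd', he⟩ := ih (pre ++ [i]) (f ^^ negOf i) _ _ hd2 hstep
    refine ⟨f', a', b', fun k => ?_, hd', by rwa [List.append_assoc] at he⟩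
    show run2 (prim i) a b (fun x y => force (glue (shiftOf i).1) fun s1 => force (glue (shiftOf i).2) fun s2 =>
      bif f then addK s2 s1 x y fun r1 r2 => runM t (f ^^ negOf i) r1 r2 k
      else addK s1 s2 x y fun r1 r2 => runM t (f ^^ negOf i) r1 r2 k) = _
    rw [hk1, force_eq, force_eq, addK_eq, addK_eq, ← hk k]
    cases f <;> rfl

/-- A word in the networks does not move the sheets. -/
noncomputable def flatK (l : List ℕ) : Bool :=
  runM l false 0 0 fun f a b => !f && (Nat.beq a 0 && Nat.beq b 0)

theorem evalM_nil' : evalM [] = mono (evalP []) false (fun u => dig 0 0 u) := by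
  simp only [dig_zero]
  exact mono_one.symm

theorem flatK_spec {l : List ℕ} (h : flatK l = true) (hp : evalP l = 1) : evalM l = 1 := by
  obtain ⟨f, a, b, hk, -, he⟩ := runM_spec (α := Bool) l [] false 0 0 (fun u => by simp) evalM_nil'
  rw [flatK, hk] at h
  simp only [Bool.and_eq_true, Nat.beq_eq, Bool.not_eq_true'] at h
  obtain ⟨rfl, rfl, rfl⟩ := h
  rw [List.nil_append, hp] at he
  rw [he]
  simp only [dig_zero]
  exact mono_one

theorem inv_ok : (List.range 5).all (fun i => flatK [i, primInv i]) = true := by decide +kernel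

theorem mprim_inv (i : ℕ) : mprim i * mprim (primInv i) = 1 := by
  have h : flatK [i, primInv i] = true → mprim i * mprim (primInv i) = 1 := fun h => by
    have hp : evalP [i, primInv i] = 1 := by simpa [evalP] using primPerm_inv i
    simpa [evalM] using flatK_spec h hp
  by_cases hi : i < 5
  · exact h (List.all_eq_true.1 inv_ok i (List.mem_range.2 hi))
  · obtain ⟨j, rfl⟩ := Nat.exists_eq_add_of_le (Nat.not_lt.1 hi)
    rw [Nat.add_comm]
    have e : primInv (j + 5) = j + 5 := by simp [primInv]
    have hm : mprim (j + 5) = 1 := by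
      rw [← mono_one, mprim]
      congr 1
      funext u
      show dig 0 0 u = 0
      exact dig_zero _
    rw [e, hm, one_mul]

theorem evalM_cons (i : ℕ) (t : List ℕ) : evalM (i :: t) = mprim i * evalM t := by simp [evalM]

theorem evalM_reduce : ∀ l : List ℕ, evalM (reduce l) = evalM l := by
  intro l
  induction l with
  | nil => rfl
  | cons i t ih =>
    rw [evalM_cons, ← ih]
    show evalM (match reduce t with
      | [] => [i]
      | j :: s => if j = primInv i then s else i :: j :: s) = _
    rcases hr : reduce t with _ | ⟨j, s⟩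
    · simp [evalM]
    · by_cases hj : j = primInv i
      · simp only [hj, if_true]
        rw [evalM_cons, ← mul_assoc, mprim_inv, one_mul]
      · simp only [hj, if_false]
        rw [evalM_cons]

/-- A letter on the three sheets. -/
noncomputable def gmono (n : ℕ) : Equiv.Perm (Fin size × ZMod 3) := evalM (gcode n)

theorem evalM_word (w : List ℕ) : evalM (wordCode w) = (w.map gmono).prod := by
  rw [wordCode, evalM_reduce]
  induction w with
  | nil => rfl
  | cons x t ih =>
    rw [List.flatMap_cons, evalM_append, ih]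
    simp [gmono]

end CfsgLib.Sporadic.Fi24Mult
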